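import Groth.Agent.Pi1FEt.Degree
import Groth.Agent.LocFree.Rank
import Groth.Agent.QCohMod.QCQS

/-!
# Finite flat morphisms of finite presentation have locally free direct image
-/

universe u

set_option autoImplicit false
set_option linter.style.haveILetI false

open CategoryTheory Limits AlgebraicGeometry TopologicalSpace Groth.PicAux

namespace Groth.Pi1FEt

variable {X Y : Scheme.{u}} (f : X ⟶ Y) [IsFinite f] [Flat f] [LocallyOfFinitePresentation f]

/-- If `f` has degree `n` everywhere then `f_* O_X` is locally free of rank `n`. -/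
theorem isFinLocFreeOfRank_of_finrank (n : ℕ) (h : ∀ y, f.finrank y = n) :
    FlatMod.IsFinLocFreeOfRank n ((Coh.push f).obj (Coh.structureModule X)) := by
  set M := (Scheme.Modules.pushforward f).obj (Coh.structureModule X)
  haveI : M.IsQuasicoherent := Groth.QCohMod.isQCoh_pushforward (M := Coh.structureModule X) f
  have key : ∀ (V : Y.Opens) (hV : IsAffineOpen V), Module.Finite Γ(Y, V) Γ(M, V) ∧
      Module.Projective Γ(Y, V) Γ(M, V) ∧ ∀ p, Module.rankAtStalk Γ(M, V) p = f.finrank (hV.fromSpec p) := by
    intro V hV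
    have hW : IsAffineOpen (f ⁻¹ᵁ V) := hV.preimage f
    have hfin : (f.app V).hom.Finite := f.finite_app V hV
    have hpb : IsPullback (Spec.map (f.app V)) hW.fromSpec hV.fromSpec f := by
      refine IsOpenImmersion.isPullback _ _ _ _ ?_ ?_
      · rw [Scheme.Hom.app_eq_appLE]
        exact (IsAffineOpen.SpecMap_appLE_fromSpec f hV hW le_rfl).symm
      · rw [hV.opensRange_fromSpec, hW.opensRange_fromSpec]
    haveI : IsFinite (Spec.map (f.app V)) := MorphismProperty.of_isPullback hpb.flip ‹IsFinite f›
    haveI : Flat (Spec.map (f.app V)) := MorphismProperty.of_isPullback hpb.flip ‹Flat f›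
    haveI : LocallyOfFinitePresentation (Spec.map (f.app V)) :=
      MorphismProperty.of_isPullback hpb.flip ‹LocallyOfFinitePresentation f›
    have hflat := Flat.SpecMap_iff.mp ‹Flat (Spec.map (f.app V))›
    have hfp := (HasRingHomProperty.Spec_iff (P := @LocallyOfFinitePresentation)).mp ‹LocallyOfFinitePresentation (Spec.map (f.app V))›
    have hr : ∀ p, (f.app V).hom.finrank p = f.finrank (hV.fromSpec p) := fun p => by
      rw [← Scheme.Hom.finrank_of_isPullback _ _ _ _ hpb.flip p,
        Scheme.Hom.finrank_SpecMap_eq_finrank hfin hflat]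
    algebraize [(f.app V).hom]
    haveI : Module.FinitePresentation Γ(Y, V) Γ(X, f ⁻¹ᵁ V) :=
      Module.FinitePresentation.of_finite_of_finitePresentation _ _
    let L : Γ(X, f ⁻¹ᵁ V) ≃ₗ[Γ(Y, V)] Γ(M, V) :=
      { toFun := fun x => x
        invFun := fun x => x
        map_add' := fun _ _ => rfl
        map_smul' := fun _ _ => rfl
        left_inv := fun _ => rfl
        right_inv := fun _ => rfl }
    haveI : Module.Projective Γ(Y, V) Γ(X, f ⁻¹ᵁ V) := Module.Flat.projective_of_finitePresentation
    refine ⟨Module.Finite.equiv L, Module.Projective.of_equiv L, fun p => ?_⟩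
    rw [← Module.rankAtStalk_eq_of_equiv L, ← RingHom.finrank_algebraMap]
    exact hr p
  have hfree : FlatMod.IsFinLocFree M := Groth.LocFree.isFinLocFree_of_affine_cover fun y => by
    obtain ⟨V, hV, hy, -⟩ := exists_isAffineOpen_mem_and_subset (X := Y) (x := y) (U := ⊤) trivial
    exact ⟨V, hV, hy, (key V hV).1, (key V hV).2.1⟩
  rw [Groth.LocFree.isFinLocFreeOfRank_iff_finrank]
  refine ⟨hfree, fun y => ?_⟩
  obtain ⟨V, hV, hy, -⟩ := exists_isAffineOpen_mem_and_subset (X := Y) (x := y) (U := ⊤) trivial
  rw [← Groth.LocFree.rankAtStalk_sections hfree hV hy, (key V hV).2.2, h]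

end Groth.Pi1FEt
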