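import Groth.Prelude.Def_FEt
import Groth.Agent.PicAux.FreeBasis
import Mathlib.AlgebraicGeometry.Morphisms.FlatRank

/-!
# The degree of a finite locally free morphism
-/

universe u

set_option autoImplicit false

open CategoryTheory Limits AlgebraicGeometry TopologicalSpace Groth.PicAux

namespace Groth.Pi1FEt

variable {X Y : Scheme.{u}} (f : X ⟶ Y) [IsFinite f] [Flat f]

/-- If `f_* O_X` is free of rank `n` near `y`, then `f` has degree `n` at `y`. -/
theorem finrank_eq_of_isFinLocFreeOfRank (n : ℕ)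
    (h : FlatMod.IsFinLocFreeOfRank n ((Scheme.Modules.pushforward f).obj (Coh.structureModule X)))
    (y : Y) : f.finrank y = n := by
  obtain ⟨U, hy, ⟨e⟩⟩ := h y
  set M := (Scheme.Modules.pushforward f).obj (Coh.structureModule X)
  obtain ⟨d⟩ := exists_split_free (X := (U : Scheme.{u})) n
  have hle : U ≤ U.ι ''ᵁ ⊤ := (Scheme.Opens.ι_image_top U).ge
  let s : Fin n → Γ(M, U) := fun i =>
    res M hle (e.inv.app ⊤ ((d.s i).app ⊤ (oneSec _ ⊤)) : Γ(M, U.ι ''ᵁ ⊤))
  have hs : Basis' M U s := by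
    rw [basis'_iff_restrict]
    exact (congrArg (Basis' (M.restrict U.ι) ⊤) (funext fun i =>
      (res_res (M := M) _ _ _).trans (res_self _ _))).mpr (d.basis.map e.inv)
  obtain ⟨_, ⟨V, hV, rfl⟩, hyV, hVU⟩ :=
    Y.isBasis_affineOpens.exists_subset_of_mem_open hy U.isOpen
  have hV : IsAffineOpen V := hV
  have hb := hs V hVU
  have hW : IsAffineOpen (f ⁻¹ᵁ V) := hV.preimage f
  algebraize [(f.app V).hom]
  have hpb : IsPullback (Spec.map (f.app V)) hW.fromSpec hV.fromSpec f := by
    refine IsOpenImmersion.isPullback _ _ _ _ ?_ ?_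
    · rw [Scheme.Hom.app_eq_appLE]
      exact (IsAffineOpen.SpecMap_appLE_fromSpec f hV hW le_rfl).symm
    · rw [hV.opensRange_fromSpec, hW.opensRange_fromSpec]
  obtain ⟨p, rfl⟩ : ∃ p, hV.fromSpec p = y := by
    have : y ∈ Set.range hV.fromSpec := by rw [hV.range_fromSpec]; exact hyV
    exact this
  have : IsFinite (Spec.map (f.app V)) := MorphismProperty.of_isPullback hpb.flip ‹IsFinite f›
  have : Flat (Spec.map (f.app V)) := MorphismProperty.of_isPullback hpb.flip ‹Flat f›
  rw [← Scheme.Hom.finrank_of_isPullback _ _ _ _ hpb.flip p]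
  have hfin := (IsFinite.SpecMap_iff _).mp ‹IsFinite (Spec.map (f.app V))›
  have hflat := Flat.SpecMap_iff.mp ‹Flat (Spec.map (f.app V))›
  have : Nontrivial Γ(Y, V) := p.nontrivial
  let L : (Fin n → Γ(Y, V)) →ₗ[Γ(Y, V)] Γ(X, f ⁻¹ᵁ V) :=
    { toFun := fun r => toFun (∑ i, r i • res M hVU (s i) : Γ(M, V))
      map_add' := fun r r' => by
        simp only [Pi.add_apply, add_smul, Finset.sum_add_distrib]
        rfl
      map_smul' := fun c r => by
        simp only [Pi.smul_apply, smul_eq_mul, mul_smul, ← Finset.smul_sum]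
        rfl }
  have hL : Function.Bijective L := hb
  rw [Scheme.Hom.finrank_SpecMap_eq_finrank hfin hflat]
  change (algebraMap Γ(Y, V) Γ(X, f ⁻¹ᵁ V)).finrank p = n
  rw [RingHom.finrank_algebraMap, ← Module.rankAtStalk_eq_of_equiv (LinearEquiv.ofBijective L hL),
    Module.rankAtStalk_eq_finrank_of_free, Module.finrank_fin_fun]
  rfl

end Groth.Pi1FEt
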