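import Groth.Agent.Pi1FEt.FiberFun
import Groth.Agent.Pi1FEt.Degree
import Groth.Agent.Pi1Etale.EqLocus
import Mathlib.RingTheory.TotallySplit
import Mathlib.AlgebraicGeometry.ResidueField
import Mathlib.FieldTheory.IsAlgClosed.AlgebraicClosure

/-!
# Geometric points of finite étale covers, families of sections
-/

universe u v

set_option autoImplicit false
set_option backward.isDefEq.respectTransparency false
set_option backward.defeqAttrib.useBackward true

open CategoryTheory Limits AlgebraicGeometry CommAlgCat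

namespace Groth.Pi1FEt

/-- Every point underlies a geometric point. -/
theorem exists_geomPoint {X : Scheme.{u}} (x : X) :
    ∃ (Ω : Type u) (_ : Field Ω) (_ : IsAlgClosed Ω) (ξ : Spec (CommRingCat.of Ω) ⟶ X),
      ξ default = x :=
  ⟨AlgebraicClosure (X.residueField x), inferInstance, inferInstance,
    Spec.map (CommRingCat.ofHom (algebraMap (X.residueField x) (AlgebraicClosure (X.residueField x)))) ≫
      X.fromSpecResidueField x,
    (Scheme.Hom.comp_apply _ _ _).trans (X.fromSpecResidueField_apply x _)⟩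

variable {X : Scheme.{u}}

theorem natCard_algHom {Ω : Type u} [Field Ω] [IsSepClosed Ω] (A : FiniteEtale.{u} Ω) :
    Nat.card (A.obj →ₐ[Ω] Ω) = Module.finrank Ω A.obj := by
  obtain ⟨n, ⟨e⟩⟩ := Algebra.IsFiniteSplit.nonempty_algEquiv_fun Ω A.obj
  rw [e.toLinearEquiv.finrank_eq, Module.finrank_fin_fun,
    Nat.card_congr ((Algebra.IsFiniteSplit.algHomEquivPrimeSpectrum Ω A.obj).trans
      ((PrimeSpectrum.comapEquiv e.toRingEquiv).toEquiv.trans
        (((PrimeSpectrum.sigmaToPiHomeo fun _ : Fin n => Ω).toEquiv.symm).trans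
          (Equiv.sigmaUnique _ _))))]
  simp

/-- The number of geometric points over `ξ` is the degree. -/
theorem natCard_fiberObj {Ω : Type u} [Field Ω] [IsSepClosed Ω]
    (ξ : Spec (CommRingCat.of Ω) ⟶ X) (Y : FEt.Cat X) [IsFinite Y.hom] [Etale Y.hom] :
    Nat.card (FEt.fiberObj ξ Y) = Y.hom.finrank (ξ default) := by
  have hA := (specFun Ω).objObjPreimageIso ((FEt.restrict ξ).obj Y)
  set A := (specFun Ω).objPreimage ((FEt.restrict ξ).obj Y)
  have hcard := Nat.card_congr ((fiberObjEquivRestrict ξ Y).trans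
    (((FEt.fiber (𝟙 (Spec (CommRingCat.of Ω)))).mapIso hA).toEquiv.symm.trans
      (specPointsEquiv Ω A.unop).symm))
  rw [hcard, natCard_algHom]
  have : IsIso hA.hom.left :=
    inferInstanceAs (IsIso ((MorphismProperty.Over.forget FEt.prop ⊤ _ ⋙ Over.forget _).map hA.hom))
  have hw : hA.hom.left ≫ pullback.snd Y.hom ξ = Spec.map (CommRingCat.ofHom (algebraMap Ω A.unop.obj)) :=
    MorphismProperty.Over.w hA.hom
  refine Eq.trans ?_ (Scheme.Hom.finrank_pullback_snd Y.hom ξ default)
  rw [← Scheme.Hom.finrank_comp_left_of_isIso hA.hom.left, hw,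
    Scheme.Hom.finrank_SpecMap_algebraMap, Module.rankAtStalk_eq_finrank_of_free]
  rfl

section sections

variable {T P : Scheme.{u}} (π : P ⟶ T) {ι : Type v} (s : ι → (T ⟶ P)) (hs : ∀ i, s i ≫ π = 𝟙 T)

/-- A finite étale morphism as a cover. -/
noncomputable abbrev cover [IsFinite π] [Etale π] : FEt.Cat T :=
  MorphismProperty.Over.mk ⊤ π ⟨inferInstance, inferInstance⟩

/-- The points of `P` over `η` given by a family of sections. -/
noncomputable def pointsMap [IsFinite π] [Etale π] {Ω : Type u} [Field Ω] (η : Spec (CommRingCat.of Ω) ⟶ T)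
    (i : ι) : FEt.fiberObj η (cover π) :=
  ⟨η ≫ s i, (Category.assoc _ _ _).trans ((congrArg (η ≫ ·) (hs i)).trans (Category.comp_id η))⟩

variable [IsFinite π] [Etale π]

/-- Sections over a connected base are determined by one geometric point. -/
theorem pointsMap_injective [ConnectedSpace T] (hsinj : Function.Injective s) {Ω : Type u} [Field Ω]
    (η : Spec (CommRingCat.of Ω) ⟶ T) : Function.Injective (pointsMap π s hs η) := fun i j h =>
  hsinj (Pi1Etale.eq_of_comp_eq_of_connected π (s i) (s j) ((hs i).trans (hs j).symm) η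
    (congrArg Subtype.val h))

variable (hinj : ∀ (Ω : Type u) [Field Ω] [IsAlgClosed Ω] (η : Spec (CommRingCat.of Ω) ⟶ T),
  Function.Injective (pointsMap π s hs η))

include hinj in
theorem disjoint_opensRange [∀ i, IsOpenImmersion (s i)] (i j : ι) (hij : i ≠ j) :
    Disjoint (s i).opensRange (s j).opensRange := by
  rw [disjoint_iff, ← TopologicalSpace.Opens.coe_inj]
  refine Set.eq_empty_of_forall_notMem ?_
  rintro p ⟨⟨t, ht⟩, ⟨t', ht'⟩⟩
  obtain ⟨w, -, -⟩ := Scheme.Pullback.exists_preimage_pullback (f := s i) (g := s j) t t'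
    (ht.trans ht'.symm)
  obtain ⟨Ω, _, _, ω, -⟩ := exists_geomPoint w
  have h1 : pullback.fst (s i) (s j) = pullback.snd (s i) (s j) := by
    simpa [hs] using congrArg (· ≫ π) (pullback.condition (f := s i) (g := s j))
  refine hij (hinj Ω (ω ≫ pullback.fst (s i) (s j)) (Subtype.ext ?_))
  change (ω ≫ pullback.fst (s i) (s j)) ≫ s i = (ω ≫ pullback.fst (s i) (s j)) ≫ s j
  rw [Category.assoc, Category.assoc, pullback.condition, h1]

include hinj in
theorem natCard_le {Ω : Type u} [Field Ω] [IsAlgClosed Ω] (η : Spec (CommRingCat.of Ω) ⟶ T) :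
    Nat.card ι ≤ π.finrank (η default) ∧ Finite ι := by
  have : Finite (FEt.fiberObj η (cover π)) :=
    Finite.of_equiv ((fiberFun η).obj (cover π)) ((fiberFunIso η).app (cover π)).toEquiv
  refine ⟨?_, Finite.of_injective _ (hinj Ω η)⟩
  haveI : IsFinite (cover π).hom := ‹IsFinite π›
  haveI : Etale (cover π).hom := ‹Etale π›
  rw [show π.finrank (η default) = Nat.card (FEt.fiberObj η (cover π)) from (natCard_fiberObj η (cover π)).symm]
  exact Nat.card_le_card_of_injective _ (hinj Ω η)

include hinj in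
/-- A family of sections trivializes iff it is bijective on all geometric fibres. -/
theorem isIso_sigmaDesc_iff [Small.{u} ι] :
    IsIso (Sigma.desc s) ↔ ∀ (Ω : Type u) [Field Ω] [IsAlgClosed Ω]
      (η : Spec (CommRingCat.of Ω) ⟶ T), Function.Bijective (pointsMap π s hs η) := by
  haveI : ∀ i, IsOpenImmersion (s i) := fun i => EtaleBase.isOpenImmersion_section π (s i) (hs i)
  haveI hoi : IsOpenImmersion (Sigma.desc s) := isOpenImmersion_sigmaDesc (fun _ : ι => T) s fun i j hij =>
    Set.disjoint_iff_inter_eq_empty.2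
      (congrArg SetLike.coe (disjoint_iff.1 (disjoint_opensRange π s hs hinj i j hij)))
  constructor
  · intro hiso Ω _ _ η
    haveI := hiso
    refine ⟨hinj Ω η, fun q => ?_⟩
    let q₀ : Spec (CommRingCat.of Ω) ⟶ P := q.1
    let q' := q₀ ≫ inv (Sigma.desc s)
    obtain ⟨i, x, hx⟩ := (sigmaOpenCover (fun _ : ι => T)).exists_eq (q' default)
    have hr : Set.range q'.base ⊆ Set.range (Sigma.ι (fun _ : ι => T) i).base := by
      rintro _ ⟨a, rfl⟩
      rw [Subsingleton.elim a default]
      exact ⟨x, hx⟩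
    let l := IsOpenImmersion.lift (Sigma.ι (fun _ : ι => T) i) q' hr
    have h1 : q₀ = l ≫ s i := by
      rw [← Sigma.ι_desc s i, ← Category.assoc, IsOpenImmersion.lift_fac, Category.assoc,
        IsIso.inv_hom_id, Category.comp_id]
    have h2 : l = η := by
      have h3 : q₀ ≫ π = η := q.2
      rwa [h1, Category.assoc, hs, Category.comp_id] at h3
    exact ⟨i, Subtype.ext ((congrArg (· ≫ s i) h2.symm).trans h1.symm)⟩
  · intro h
    refine (isIso_iff_isOpenImmersion_and_surjective _).2 ⟨inferInstance, ⟨fun p => ?_⟩⟩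
    obtain ⟨Ω, _, _, q, hq⟩ := exists_geomPoint p
    obtain ⟨i, hi⟩ := (h Ω (q ≫ π)).2 ⟨q, rfl⟩
    refine ⟨Sigma.ι (fun _ : ι => T) i ((q ≫ π) default), ?_⟩
    rw [← Scheme.Hom.comp_apply, Sigma.ι_desc, ← Scheme.Hom.comp_apply]
    exact (congrArg (fun α => (ConcreteCategory.hom α.base) default) (congrArg Subtype.val hi)).trans hq

include hinj in
/-- Over a nonempty base of constant degree `n`, a family of sections with distinct values at all
geometric points has at most `n` members, with equality iff it trivializes `P`. -/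
theorem natCard_le_and_isIso_iff [Small.{u} ι] [Nonempty T] {n : ℕ} (hn : ∀ t, π.finrank t = n) :
    Finite ι ∧ Nat.card ι ≤ n ∧ (Nat.card ι = n ↔ IsIso (Sigma.desc s)) := by
  obtain ⟨t⟩ := ‹Nonempty T›
  obtain ⟨Ω₀, _, _, η₀, -⟩ := exists_geomPoint t
  obtain ⟨hle, hfin⟩ := natCard_le π s hs hinj η₀
  rw [hn] at hle
  refine ⟨hfin, hle, ?_⟩
  have hcard : ∀ (Ω : Type u) [Field Ω] [IsAlgClosed Ω] (η : Spec (CommRingCat.of Ω) ⟶ T),
      Nat.card (FEt.fiberObj η (cover π)) = n := fun Ω _ _ η =>
    haveI : IsFinite (cover π).hom := ‹IsFinite π›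
    haveI : Etale (cover π).hom := ‹Etale π›
    (natCard_fiberObj η (cover π)).trans (hn _)
  rw [isIso_sigmaDesc_iff π s hs hinj]
  refine ⟨fun h Ω _ _ η => ?_, fun h => ?_⟩
  · have : Finite (FEt.fiberObj η (cover π)) :=
      Finite.of_equiv ((fiberFun η).obj (cover π)) ((fiberFunIso η).app (cover π)).toEquiv
    exact (hinj Ω η).bijective_of_nat_card_le ((hcard Ω η).le.trans h.ge)
  · exact (Nat.card_congr (Equiv.ofBijective _ (h Ω₀ η₀))).trans (hcard Ω₀ η₀)

end sections

end Groth.Pi1FEt
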