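import Groth.Agent.Pi1FEt.SpecEquiv
import Mathlib.AlgebraicGeometry.RelativeGluing
import Mathlib.AlgebraicGeometry.Cover.Directed

/-!
# Finite colimits of finite étale covers, preserved by every base change
-/

set_option autoImplicit false
set_option backward.isDefEq.respectTransparency false
set_option backward.defeqAttrib.useBackward true

universe u w

open CategoryTheory Limits AlgebraicGeometry

namespace Groth.Pi1FEt

variable {X Y Z : Scheme.{u}}

/-- Restriction along the identity. -/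
noncomputable def restrictIdIso (X : Scheme.{u}) : FEt.restrict (𝟙 X) ≅ 𝟭 (FEt.Cat X) :=
  NatIso.ofComponents
    (fun A => MorphismProperty.Over.isoMk (asIso (pullback.fst A.hom (𝟙 X)))
      (pullback.condition.trans (Category.comp_id _)))
    (fun {A B} g => MorphismProperty.Over.Hom.ext (pullback.lift_fst _ _ _))

/-- Restriction along a composite. -/
noncomputable def restrictCompIso (f : X ⟶ Y) (g : Y ⟶ Z) :
    FEt.restrict (f ≫ g) ≅ FEt.restrict g ⋙ FEt.restrict f :=
  MorphismProperty.Over.pullbackComp f g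

/-- Restriction along equal morphisms. -/
noncomputable def restrictCongr {f g : X ⟶ Y} (h : f = g) : FEt.restrict f ≅ FEt.restrict g :=
  eqToIso (congrArg FEt.restrict h)

theorem restrictCongr_inv_left_fst {f g : X ⟶ Y} (h : f = g) (A : FEt.Cat Y) :
    ((restrictCongr h).inv.app A).left ≫ pullback.fst A.hom f = pullback.fst A.hom g := by
  subst h
  exact Category.id_comp _

theorem restrictCompIso_hom_left_fst_fst (f : X ⟶ Y) (g : Y ⟶ Z) (A : FEt.Cat Z) :
    ((restrictCompIso f g).hom.app A).left ≫ pullback.fst (pullback.snd A.hom g) f ≫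
      pullback.fst A.hom g = pullback.fst A.hom (f ≫ g) :=
  MorphismProperty.Over.pullbackComp_left_fst_fst (P := FEt.prop) (Q := ⊤) f g A

/-- Restriction along an isomorphism is an equivalence. -/
noncomputable def restrictEquivOfIso (e : X ≅ Y) : FEt.Cat Y ≌ FEt.Cat X :=
  CategoryTheory.Equivalence.mk (FEt.restrict e.hom) (FEt.restrict e.inv)
    ((restrictIdIso Y).symm ≪≫ restrictCongr e.inv_hom_id.symm ≪≫ restrictCompIso _ _)
    ((restrictCompIso _ _).symm ≪≫ restrictCongr e.hom_inv_id ≪≫ restrictIdIso X)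

instance (f : X ⟶ Y) [IsIso f] : (FEt.restrict f).IsEquivalence :=
  (restrictEquivOfIso (asIso f)).isEquivalence_functor

instance hasFiniteColimits_of_isAffine (X : Scheme.{u}) [IsAffine X] :
    HasFiniteColimits (FEt.Cat X) :=
  ⟨fun J _ _ =>
    have : HasFiniteColimits (FEt.Cat (Spec Γ(X, ⊤))) :=
      inferInstanceAs (HasFiniteColimits (FEt.Cat (Spec (CommRingCat.of Γ(X, ⊤)))))
    Adjunction.hasColimitsOfShape_of_equivalence
      (restrictEquivOfIso X.isoSpec.symm : FEt.Cat X ≌ FEt.Cat (Spec Γ(X, ⊤))).functor⟩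

theorem preservesFiniteColimits_of_isAffine (g : X ⟶ Y) [IsAffine X] [IsAffine Y] :
    PreservesFiniteColimits (FEt.restrict g) where
  preservesFiniteColimits J _ _ := by
    obtain ⟨φ, hφ⟩ := Spec.map_surjective (X.isoSpec.inv ≫ g ≫ Y.isoSpec.hom)
    algebraize [φ.hom]
    have h0 : PreservesFiniteColimits (FEt.restrict (Spec.map φ)) :=
      inferInstanceAs (PreservesFiniteColimits
        (FEt.restrict (Spec.map (CommRingCat.ofHom (algebraMap Γ(Y, ⊤) Γ(X, ⊤))))))
    have hg : g = X.isoSpec.hom ≫ Spec.map φ ≫ Y.isoSpec.inv := by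
      rw [hφ]; simp
    have h1 : PreservesColimitsOfShape J (FEt.restrict (Spec.map φ ≫ Y.isoSpec.inv)) :=
      preservesColimitsOfShape_of_natIso (restrictCompIso _ _).symm
    exact preservesColimitsOfShape_of_natIso
      ((restrictCompIso X.isoSpec.hom (Spec.map φ ≫ Y.isoSpec.inv)).symm ≪≫ restrictCongr hg.symm)

section colimit

variable {J : Type w} [SmallCategory J]

/-- Typed coprojection of a cocone. -/
abbrev cι {C : Type*} [Category C] {D : J ⥤ C} (c : Cocone D) (a : J) : D.obj a ⟶ c.pt := c.ι.app a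

/-- Morphisms out of a colimit cover over a morphism of bases are determined on the diagram. -/
theorem homExt_over {S : Scheme.{u}} {D : J ⥤ FEt.Cat S} {c : Cocone D} (hc : IsColimit c)
    (g : S ⟶ X) (T : FEt.Cat X) (φ φ' : c.pt.left ⟶ T.left) (hφ : φ ≫ T.hom = c.pt.hom ≫ g)
    (hφ' : φ' ≫ T.hom = c.pt.hom ≫ g) (h : ∀ a, (cι c a).left ≫ φ = (cι c a).left ≫ φ') :
    φ = φ' := by
  let l : c.pt ⟶ (FEt.restrict g).obj T :=
    MorphismProperty.Over.homMk (pullback.lift φ c.pt.hom hφ) (pullback.lift_snd _ _ _)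
  let l' : c.pt ⟶ (FEt.restrict g).obj T :=
    MorphismProperty.Over.homMk (pullback.lift φ' c.pt.hom hφ') (pullback.lift_snd _ _ _)
  have hll : l = l' := hc.hom_ext fun a => MorphismProperty.Over.Hom.ext (by
    change (cι c a).left ≫ pullback.lift φ c.pt.hom hφ = (cι c a).left ≫ pullback.lift φ' c.pt.hom hφ'
    apply pullback.hom_ext
    · simp only [Category.assoc, pullback.lift_fst, h]
    · simp only [Category.assoc, pullback.lift_snd])
  have h2 : pullback.lift φ c.pt.hom hφ = pullback.lift φ' c.pt.hom hφ' := congrArg (fun l => l.left) hll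
  exact (pullback.lift_fst φ c.pt.hom hφ).symm.trans
    ((congrArg (· ≫ pullback.fst T.hom g) h2).trans (pullback.lift_fst φ' c.pt.hom hφ'))

/-- Morphisms out of a colimit cover over a morphism of bases. -/
theorem exists_descOver {S : Scheme.{u}} {D : J ⥤ FEt.Cat S} {c : Cocone D} (hc : IsColimit c)
    (g : S ⟶ X) (T : FEt.Cat X) (φ : ∀ a, (D.obj a).left ⟶ T.left)
    (hφ : ∀ a, φ a ≫ T.hom = (D.obj a).hom ≫ g)
    (hnat : ∀ ⦃a b⦄ (k : a ⟶ b), (D.map k).left ≫ φ b = φ a) :
    ∃ ψ : c.pt.left ⟶ T.left, ψ ≫ T.hom = c.pt.hom ≫ g ∧ ∀ a, (cι c a).left ≫ ψ = φ a := by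
  let s : Cocone D :=
    { pt := (FEt.restrict g).obj T
      ι :=
        { app := fun a => MorphismProperty.Over.homMk (pullback.lift (φ a) (D.obj a).hom (hφ a))
            (pullback.lift_snd _ _ _)
          naturality := fun a b k => MorphismProperty.Over.Hom.ext (by
            change (D.map k).left ≫ pullback.lift _ _ (hφ b) = pullback.lift _ _ (hφ a) ≫ 𝟙 _
            rw [Category.comp_id]
            apply pullback.hom_ext
            · simp only [Category.assoc, pullback.lift_fst, hnat]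
            · simp only [Category.assoc, pullback.lift_snd]
              exact MorphismProperty.Over.w (D.map k)) } }
  refine ⟨(hc.desc s).left ≫ pullback.fst T.hom g, ?_, fun a => ?_⟩
  · rw [Category.assoc, pullback.condition]
    exact (Category.assoc _ _ _).symm.trans (congrArg (· ≫ g) (MorphismProperty.Over.w (hc.desc s)))
  · have h := congrArg (fun m => m.left ≫ pullback.fst T.hom g) (hc.fac s a)
    exact ((Category.assoc _ _ _).symm.trans h).trans (pullback.lift_fst _ _ _)

variable (D : J ⥤ FEt.Cat X) (𝒰 : X.OpenCover) [Category 𝒰.I₀] [𝒰.LocallyDirected]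

theorem restrict_map_left_fst {A B : FEt.Cat X} (g : A ⟶ B) {W : Scheme.{u}} (p : W ⟶ X) :
    ((FEt.restrict p).map g).left ≫ pullback.fst B.hom p = pullback.fst A.hom p ≫ g.left :=
  pullback.lift_fst _ _ _

/-- The transition map between restrictions of a cover. -/
noncomputable def transMap (A : FEt.Cat X) {i j : 𝒰.I₀} (hij : i ⟶ j) :
    pullback A.hom (𝒰.f i) ⟶ pullback A.hom (𝒰.f j) :=
  pullback.map _ _ _ _ (𝟙 _) (𝒰.trans hij) (𝟙 _) (by simp) (by simp)

theorem restrict_map_transMap {A B : FEt.Cat X} (g : A ⟶ B) {i j : 𝒰.I₀} (hij : i ⟶ j) :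
    ((FEt.restrict (𝒰.f i)).map g).left ≫ transMap 𝒰 B hij =
      transMap 𝒰 A hij ≫ ((FEt.restrict (𝒰.f j)).map g).left := by
  apply pullback.hom_ext <;> simp [FEt.restrict, transMap]

/-- A cocone which restricts to a colimit on each member of a directed cover is a colimit. -/
theorem nonempty_isColimit_of_cover (c : Cocone D)
    (h : ∀ i, IsColimit ((FEt.restrict (𝒰.f i)).mapCocone c)) : Nonempty (IsColimit c) := by
  refine ⟨IsColimit.ofExistsUnique fun s => ?_⟩
  have hloc : ∀ i, ∃ φ : pullback c.pt.hom (𝒰.f i) ⟶ s.pt.left,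
      φ ≫ s.pt.hom = pullback.snd c.pt.hom (𝒰.f i) ≫ 𝒰.f i ∧
      ∀ a, ((FEt.restrict (𝒰.f i)).map (cι c a)).left ≫ φ =
        pullback.fst (D.obj a).hom (𝒰.f i) ≫ (cι s a).left := by
    intro i
    refine exists_descOver (h i) (𝒰.f i) s.pt
      (fun a => pullback.fst (D.obj a).hom (𝒰.f i) ≫ (cι s a).left) (fun a => ?_) (fun a b k => ?_)
    · rw [Category.assoc]
      exact (congrArg (_ ≫ ·) (MorphismProperty.Over.w (cι s a))).trans pullback.condition
    · change ((FEt.restrict (𝒰.f i)).map (D.map k)).left ≫ _ = _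
      rw [← Category.assoc, restrict_map_left_fst, Category.assoc]
      exact congrArg (_ ≫ ·) (congrArg (fun m => m.left) (s.w k))
  choose φ hφ1 hφ2 using hloc
  let 𝒱 : c.pt.left.OpenCover := 𝒰.pullback₁ c.pt.hom
  have hcompat : ∀ {i j : 𝒰.I₀} (hij : i ⟶ j), transMap 𝒰 c.pt hij ≫ φ j = φ i := by
    intro i j hij
    refine homExt_over (h i) (𝒰.f i) s.pt _ _ ?_ (hφ1 i) fun a => ?_
    · change (transMap 𝒰 c.pt hij ≫ φ j) ≫ s.pt.hom = pullback.snd c.pt.hom (𝒰.f i) ≫ 𝒰.f i
      simp [transMap, hφ1]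
    · change ((FEt.restrict (𝒰.f i)).map (cι c a)).left ≫ transMap 𝒰 c.pt hij ≫ φ j =
        ((FEt.restrict (𝒰.f i)).map (cι c a)).left ≫ φ i
      rw [hφ2, ← Category.assoc, restrict_map_transMap, Category.assoc, hφ2]
      exact (Category.assoc _ _ _).symm.trans (congrArg (· ≫ _) (by simp [transMap]))
  let m : c.pt.left ⟶ s.pt.left := 𝒱.glueMorphismsOfLocallyDirected φ (fun hij => hcompat hij)
  have hm : ∀ i, pullback.fst c.pt.hom (𝒰.f i) ≫ m = φ i := fun i =>
    𝒱.map_glueMorphismsOfLocallyDirected φ (fun hij => hcompat hij) i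
  refine ⟨MorphismProperty.Over.homMk m (𝒱.hom_ext _ _ fun i => ?_),
    fun a => MorphismProperty.Over.Hom.ext (Scheme.Cover.hom_ext (𝒰.pullback₁ (D.obj a).hom) _ _ fun i => ?_),
    fun m' hm' => MorphismProperty.Over.Hom.ext (𝒱.hom_ext _ _ fun i => ?_)⟩
  · change pullback.fst c.pt.hom (𝒰.f i) ≫ m ≫ s.pt.hom = pullback.fst c.pt.hom (𝒰.f i) ≫ c.pt.hom
    rw [← Category.assoc, hm, hφ1, pullback.condition]
  · change pullback.fst (D.obj a).hom (𝒰.f i) ≫ (cι c a).left ≫ m =
      pullback.fst (D.obj a).hom (𝒰.f i) ≫ (cι s a).left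
    rw [← Category.assoc, ← restrict_map_left_fst, Category.assoc, hm, hφ2]
  · change pullback.fst c.pt.hom (𝒰.f i) ≫ m'.left = pullback.fst c.pt.hom (𝒰.f i) ≫ m
    rw [hm]
    refine homExt_over (h i) (𝒰.f i) s.pt _ _ ?_ (hφ1 i) fun a => ?_
    · change (pullback.fst c.pt.hom (𝒰.f i) ≫ m'.left) ≫ s.pt.hom = pullback.snd c.pt.hom (𝒰.f i) ≫ 𝒰.f i
      rw [Category.assoc]
      exact (congrArg (_ ≫ ·) (MorphismProperty.Over.w m')).trans pullback.condition
    · change ((FEt.restrict (𝒰.f i)).map (cι c a)).left ≫ pullback.fst c.pt.hom (𝒰.f i) ≫ m'.left =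
        ((FEt.restrict (𝒰.f i)).map (cι c a)).left ≫ φ i
      rw [hφ2, ← Category.assoc, restrict_map_left_fst, Category.assoc]
      exact congrArg (pullback.fst (D.obj a).hom (𝒰.f i) ≫ ·) (congrArg (fun m => m.left) (hm' a))

section existence

variable [FinCategory J] [∀ i, IsAffine (𝒰.X i)]

/-- The local colimit cover. -/
noncomputable def locCocone (i : 𝒰.I₀) : Cocone (D ⋙ FEt.restrict (𝒰.f i)) :=
  colimit.cocone _

/-- The local colimit cover is a colimit. -/
noncomputable def locIsColimit (i : 𝒰.I₀) : IsColimit (locCocone D 𝒰 i) :=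
  colimit.isColimit _

theorem exists_locTrans {i j : 𝒰.I₀} (hij : i ⟶ j) :
    ∃ τ : (locCocone D 𝒰 i).pt.left ⟶ (locCocone D 𝒰 j).pt.left,
      τ ≫ (locCocone D 𝒰 j).pt.hom = (locCocone D 𝒰 i).pt.hom ≫ 𝒰.trans hij ∧
      ∀ a, (cι (locCocone D 𝒰 i) a).left ≫ τ =
        transMap 𝒰 (D.obj a) hij ≫ (cι (locCocone D 𝒰 j) a).left := by
  refine exists_descOver (locIsColimit D 𝒰 i) (𝒰.trans hij) _ _ (fun a => ?_) (fun a b k => ?_)
  · rw [Category.assoc, MorphismProperty.Over.w (cι (locCocone D 𝒰 j) a)]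
    exact pullback.lift_snd _ _ _
  · change ((FEt.restrict (𝒰.f i)).map (D.map k)).left ≫ _ = _
    rw [← Category.assoc, restrict_map_transMap, Category.assoc]
    exact congrArg (_ ≫ ·) (congrArg (fun m => m.left) ((locCocone D 𝒰 j).w k))

/-- Transition maps of local colimit covers. -/
noncomputable def locTrans {i j : 𝒰.I₀} (hij : i ⟶ j) :
    (locCocone D 𝒰 i).pt.left ⟶ (locCocone D 𝒰 j).pt.left :=
  (exists_locTrans D 𝒰 hij).choose

theorem locTrans_hom {i j : 𝒰.I₀} (hij : i ⟶ j) :
    locTrans D 𝒰 hij ≫ (locCocone D 𝒰 j).pt.hom = (locCocone D 𝒰 i).pt.hom ≫ 𝒰.trans hij :=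
  (exists_locTrans D 𝒰 hij).choose_spec.1

theorem ι_locTrans {i j : 𝒰.I₀} (hij : i ⟶ j) (a : J) :
    (cι (locCocone D 𝒰 i) a).left ≫ locTrans D 𝒰 hij =
      transMap 𝒰 (D.obj a) hij ≫ (cι (locCocone D 𝒰 j) a).left :=
  (exists_locTrans D 𝒰 hij).choose_spec.2 a

theorem isPullback_locTrans {i j : 𝒰.I₀} (hij : i ⟶ j) :
    IsPullback (locTrans D 𝒰 hij) (locCocone D 𝒰 i).pt.hom (locCocone D 𝒰 j).pt.hom (𝒰.trans hij) := by
  have := preservesFiniteColimits_of_isAffine (𝒰.trans hij)
  let α : (D ⋙ FEt.restrict (𝒰.f j)) ⋙ FEt.restrict (𝒰.trans hij) ≅ D ⋙ FEt.restrict (𝒰.f i) :=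
    Functor.associator _ _ _ ≪≫ D.isoWhiskerLeft ((restrictCompIso _ _).symm ≪≫ restrictCongr (𝒰.trans_map hij))
  let κ : (locCocone D 𝒰 i).pt ⟶ (FEt.restrict (𝒰.trans hij)).obj (locCocone D 𝒰 j).pt :=
    MorphismProperty.Over.homMk (pullback.lift (locTrans D 𝒰 hij) _ (locTrans_hom D 𝒰 hij))
      (pullback.lift_snd _ _ _)
  let c' : Cocone (D ⋙ FEt.restrict (𝒰.f i)) :=
    { pt := (FEt.restrict (𝒰.trans hij)).obj (locCocone D 𝒰 j).pt
      ι :=
        { app := fun a => (locCocone D 𝒰 i).ι.app a ≫ κ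
          naturality := fun a b k => by
            change (D ⋙ FEt.restrict (𝒰.f i)).map k ≫ _ ≫ κ = (_ ≫ κ) ≫ 𝟙 _
            rw [Category.comp_id, ← Category.assoc, (locCocone D 𝒰 i).w k] } }
  let c'' : Cocone (D ⋙ FEt.restrict (𝒰.f i)) :=
    (Cocone.precompose α.inv).obj ((FEt.restrict (𝒰.trans hij)).mapCocone (locCocone D 𝒰 j))
  have hc'' : IsColimit c'' :=
    (IsColimit.precomposeInvEquiv α _).symm (isColimitOfPreserves _ (locIsColimit D 𝒰 j))
  have hκ : ∀ a, (locCocone D 𝒰 i).ι.app a ≫ κ = c''.ι.app a := by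
    intro a
    refine MorphismProperty.Over.Hom.ext ?_
    change (cι (locCocone D 𝒰 i) a).left ≫ pullback.lift _ _ _ =
      (α.inv.app a).left ≫ ((FEt.restrict (𝒰.trans hij)).map (cι (locCocone D 𝒰 j) a)).left
    apply pullback.hom_ext
    · rw [Category.assoc, pullback.lift_fst, ι_locTrans, Category.assoc, restrict_map_left_fst,
        ← Category.assoc]
      congr 1
      have hα : (α.inv.app a).left = ((restrictCongr (𝒰.trans_map hij)).inv.app (D.obj a)).left ≫
          ((restrictCompIso (𝒰.trans hij) (𝒰.f j)).hom.app (D.obj a)).left := by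
        simp [α]
      rw [hα]
      have hfst := ((Category.assoc _ _ _).trans (congrArg
        (((restrictCongr (𝒰.trans_map hij)).inv.app (D.obj a)).left ≫ ·)
        (restrictCompIso_hom_left_fst_fst (𝒰.trans hij) (𝒰.f j) (D.obj a)))).trans
        (restrictCongr_inv_left_fst (𝒰.trans_map hij) (D.obj a))
      apply pullback.hom_ext
      · refine (pullback.lift_fst _ _ _).trans ((Category.comp_id _).trans ?_)
        exact hfst.symm.trans (by simp only [Category.assoc]; rfl)
      · refine (pullback.lift_snd _ _ _).trans ?_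
        have w1 := MorphismProperty.Over.w ((restrictCompIso (𝒰.trans hij) (𝒰.f j)).hom.app (D.obj a))
        have w2 := MorphismProperty.Over.w ((restrictCongr (𝒰.trans_map hij)).inv.app (D.obj a))
        refine (congrArg (· ≫ 𝒰.trans hij) w2).symm.trans ?_
        simp only [Category.assoc]
        refine congrArg (_ ≫ ·) ?_
        exact ((congrArg (· ≫ 𝒰.trans hij) w1).symm.trans (Category.assoc _ _ _)).trans
          (congrArg (_ ≫ ·) pullback.condition.symm)
    · rw [Category.assoc, pullback.lift_snd, Category.assoc]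
      exact (MorphismProperty.Over.w (cι (locCocone D 𝒰 i) a)).trans
        ((congrArg (_ ≫ ·) (pullback.lift_snd _ _ _)).trans (MorphismProperty.Over.w (α.inv.app a))).symm
  have : IsIso κ := by
    have : κ = ((locIsColimit D 𝒰 i).coconePointUniqueUpToIso hc'').hom :=
      (locIsColimit D 𝒰 i).hom_ext fun a => by
        rw [IsColimit.comp_coconePointUniqueUpToIso_hom, hκ a]
    rw [this]; infer_instance
  have hk : IsIso κ.left :=
    inferInstanceAs (IsIso ((MorphismProperty.Over.forget FEt.prop ⊤ _ ⋙ Over.forget _).map κ))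
  exact IsPullback.of_iso_pullback ⟨locTrans_hom D 𝒰 hij⟩ (asIso κ.left)
    (pullback.lift_fst _ _ _) (pullback.lift_snd _ _ _)

theorem locTrans_ext {i j : 𝒰.I₀} (g : 𝒰.X i ⟶ 𝒰.X j) (hg : g ≫ 𝒰.f j = 𝒰.f i)
    (φ φ' : (locCocone D 𝒰 i).pt.left ⟶ (locCocone D 𝒰 j).pt.left)
    (h : φ ≫ (locCocone D 𝒰 j).pt.hom = (locCocone D 𝒰 i).pt.hom ≫ g)
    (h' : φ' ≫ (locCocone D 𝒰 j).pt.hom = (locCocone D 𝒰 i).pt.hom ≫ g)
    (he : ∀ a, (cι (locCocone D 𝒰 i) a).left ≫ φ = (cι (locCocone D 𝒰 i) a).left ≫ φ') : φ = φ' :=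
  homExt_over (locIsColimit D 𝒰 i) g _ φ φ' h h' he

/-- The functor of local colimit covers. -/
noncomputable def locFunctor : 𝒰.I₀ ⥤ Scheme.{u} where
  obj i := (locCocone D 𝒰 i).pt.left
  map hij := locTrans D 𝒰 hij
  map_id i := by
    refine locTrans_ext D 𝒰 (𝒰.trans (𝟙 i)) (𝒰.trans_map _) _ _ (locTrans_hom D 𝒰 _) (by simp) fun a => ?_
    rw [ι_locTrans]
    simp [transMap]
  map_comp {i j k} hij hjk := by
    refine locTrans_ext D 𝒰 (𝒰.trans (hij ≫ hjk)) (𝒰.trans_map _) _ _ (locTrans_hom D 𝒰 _) ?_ fun a => ?_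
    · rw [Category.assoc, locTrans_hom, ← Category.assoc, locTrans_hom, Category.assoc, Scheme.Cover.trans_comp]
    · rw [ι_locTrans, ← Category.assoc, ι_locTrans, Category.assoc, ι_locTrans, ← Category.assoc]
      simp [transMap, pullback.map_comp]

/-- The relative gluing datum of local colimit covers. -/
noncomputable def locGluing : 𝒰.RelativeGluingData where
  functor := locFunctor D 𝒰
  natTrans :=
    { app := fun i => (locCocone D 𝒰 i).pt.hom
      naturality := fun _ _ hij => locTrans_hom D 𝒰 hij }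
  equifibered {_ _} hij := isPullback_locTrans D 𝒰 hij

variable [Quiver.IsThin 𝒰.I₀] [Small.{u} 𝒰.I₀]

/-- The glued cover. -/
noncomputable def gluedObj : FEt.Cat X :=
  MorphismProperty.Over.mk ⊤ (locGluing D 𝒰).toBase <| by
    rw [IsZariskiLocalAtTarget.iff_of_openCover (P := FEt.prop) 𝒰]
    intro i
    rw [Scheme.Cover.pullbackHom,
      ← ((locGluing D 𝒰).isPullback_natTrans_ι_toBase i).flip.isoPullback_inv_snd,
      MorphismProperty.cancel_left_of_respectsIso (P := FEt.prop)]
    exact (locCocone D 𝒰 i).pt.prop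

/-- The glued object restricts to the local ones. -/
noncomputable def gluedObjIso (i : 𝒰.I₀) :
    (locCocone D 𝒰 i).pt ≅ (FEt.restrict (𝒰.f i)).obj (gluedObj D 𝒰) :=
  MorphismProperty.Over.isoMk ((locGluing D 𝒰).isPullback_natTrans_ι_toBase i).flip.isoPullback
    ((locGluing D 𝒰).isPullback_natTrans_ι_toBase i).flip.isoPullback_hom_snd

theorem gluedObjIso_hom_fst (i : 𝒰.I₀) :
    (gluedObjIso D 𝒰 i).hom.left ≫ pullback.fst (gluedObj D 𝒰).hom (𝒰.f i) =
      colimit.ι (locGluing D 𝒰).functor i :=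
  ((locGluing D 𝒰).isPullback_natTrans_ι_toBase i).flip.isoPullback_hom_fst

theorem exists_gluedι (a : J) :
    ∃ φ : D.obj a ⟶ gluedObj D 𝒰, ∀ i, pullback.fst (D.obj a).hom (𝒰.f i) ≫ φ.left =
      (cι (locCocone D 𝒰 i) a).left ≫ colimit.ι (locGluing D 𝒰).functor i := by
  let 𝒱 : (D.obj a).left.OpenCover := 𝒰.pullback₁ (D.obj a).hom
  have hcompat : ∀ {i j : 𝒰.I₀} (hij : i ⟶ j), transMap 𝒰 (D.obj a) hij ≫
      ((cι (locCocone D 𝒰 j) a).left ≫ colimit.ι (locGluing D 𝒰).functor j) =
      (cι (locCocone D 𝒰 i) a).left ≫ colimit.ι (locGluing D 𝒰).functor i := by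
    intro i j hij
    refine ((Category.assoc _ _ _).symm.trans (congrArg (· ≫ _) (ι_locTrans D 𝒰 hij a).symm)).trans ?_
    exact (Category.assoc _ _ _).trans (congrArg (_ ≫ ·) (colimit.w (locGluing D 𝒰).functor hij))
  refine ⟨MorphismProperty.Over.homMk (𝒱.glueMorphismsOfLocallyDirected _ (fun hij => hcompat hij))
    (𝒱.hom_ext _ _ fun i => ?_), fun i => 𝒱.map_glueMorphismsOfLocallyDirected _ (fun hij => hcompat hij) i⟩
  rw [← Category.assoc, 𝒱.map_glueMorphismsOfLocallyDirected]
  change ((cι (locCocone D 𝒰 i) a).left ≫ colimit.ι (locGluing D 𝒰).functor i) ≫ (locGluing D 𝒰).toBase =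
    pullback.fst (D.obj a).hom (𝒰.f i) ≫ (D.obj a).hom
  rw [Category.assoc, (locGluing D 𝒰).ι_toBase, pullback.condition]
  exact (Category.assoc _ _ _).symm.trans (congrArg (· ≫ 𝒰.f i) (MorphismProperty.Over.w (cι (locCocone D 𝒰 i) a)))

theorem exists_colimit_preserved :
    ∃ c : Cocone D, Nonempty (IsColimit c) ∧
      ∀ i, Nonempty (IsColimit ((FEt.restrict (𝒰.f i)).mapCocone c)) := by
  choose φ hφ using exists_gluedι D 𝒰
  let c : Cocone D :=
    { pt := gluedObj D 𝒰
      ι :=
        { app := φ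
          naturality := fun a b k => by
            change D.map k ≫ φ b = φ a ≫ 𝟙 _
            rw [Category.comp_id]
            refine MorphismProperty.Over.Hom.ext
              (Scheme.Cover.hom_ext (𝒰.pullback₁ (D.obj a).hom) _ _ fun i => ?_)
            change pullback.fst (D.obj a).hom (𝒰.f i) ≫ (D.map k).left ≫ (φ b).left =
              pullback.fst (D.obj a).hom (𝒰.f i) ≫ (φ a).left
            rw [hφ, ← Category.assoc, ← restrict_map_left_fst, Category.assoc, hφ, ← Category.assoc]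
            exact congrArg (· ≫ _) (congrArg (fun m => m.left) ((locCocone D 𝒰 i).w k)) } }
  have hi : ∀ i, IsColimit ((FEt.restrict (𝒰.f i)).mapCocone c) := fun i =>
    (locIsColimit D 𝒰 i).ofIsoColimit (Cocone.ext (gluedObjIso D 𝒰 i) fun a => by
      refine MorphismProperty.Over.Hom.ext (pullback.hom_ext ?_ ?_)
      · change ((cι (locCocone D 𝒰 i) a).left ≫ (gluedObjIso D 𝒰 i).hom.left) ≫ pullback.fst _ _ =
          ((FEt.restrict (𝒰.f i)).map (φ a)).left ≫ pullback.fst (gluedObj D 𝒰).hom (𝒰.f i)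
        rw [restrict_map_left_fst, hφ, Category.assoc, gluedObjIso_hom_fst]
      · exact (MorphismProperty.Over.w (cι (locCocone D 𝒰 i) a ≫ (gluedObjIso D 𝒰 i).hom)).trans
          (MorphismProperty.Over.w ((FEt.restrict (𝒰.f i)).map (φ a))).symm)
  exact ⟨c, nonempty_isColimit_of_cover D 𝒰 c hi, fun i => ⟨hi i⟩⟩

end existence

end colimit

section preservation

variable {J : Type} [SmallCategory J] [FinCategory J]

theorem isAffine_directedAffineCover (X : Scheme.{u}) (i : X.directedAffineCover.I₀) :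
    IsAffine (X.directedAffineCover.X i) :=
  (show X.affineOpens from i).2

instance hasFiniteColimits_cat (X : Scheme.{u}) : HasFiniteColimits (FEt.Cat X) :=
  ⟨fun J _ _ =>
    { has_colimit := fun D => by
        have := isAffine_directedAffineCover X
        obtain ⟨c, ⟨hc⟩, -⟩ := exists_colimit_preserved D X.directedAffineCover
        exact ⟨⟨⟨c, hc⟩⟩⟩ }⟩

theorem preserves_restrict_affineOpen (Y : Scheme.{u}) (i : Y.directedAffineCover.I₀) :
    PreservesColimitsOfShape J (FEt.restrict (Y.directedAffineCover.f i)) :=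
  { preservesColimit := fun {D} => by
      have := isAffine_directedAffineCover Y
      obtain ⟨c, ⟨hc⟩, h⟩ := exists_colimit_preserved D Y.directedAffineCover
      exact preservesColimit_of_preserves_colimit_cocone hc (h i).some }

theorem preserves_of_cover (f : X ⟶ Y) (𝒰 : X.OpenCover) [Category 𝒰.I₀] [𝒰.LocallyDirected]
    (h : ∀ i, PreservesColimitsOfShape J (FEt.restrict (𝒰.f i ≫ f))) :
    PreservesColimitsOfShape J (FEt.restrict f) :=
  { preservesColimit := fun {D} =>
      ⟨fun {c} hc => nonempty_isColimit_of_cover (D ⋙ FEt.restrict f) 𝒰 ((FEt.restrict f).mapCocone c)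
        fun i => by
          have := h i
          have : PreservesColimitsOfShape J (FEt.restrict f ⋙ FEt.restrict (𝒰.f i)) :=
            preservesColimitsOfShape_of_natIso (restrictCompIso (𝒰.f i) f)
          exact isColimitOfPreserves (FEt.restrict f ⋙ FEt.restrict (𝒰.f i)) hc⟩ }

theorem preserves_of_isAffine_target (f : X ⟶ Y) [IsAffine Y] :
    PreservesColimitsOfShape J (FEt.restrict f) :=
  preserves_of_cover f X.directedAffineCover fun i => by
    have := isAffine_directedAffineCover X i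
    have := preservesFiniteColimits_of_isAffine (X.directedAffineCover.f i ≫ f)
    exact PreservesFiniteColimits.preservesFiniteColimits J

theorem preserves_restrict (f : X ⟶ Y) : PreservesColimitsOfShape J (FEt.restrict f) :=
  preserves_of_cover f (Y.directedAffineCover.pullback₁ f) fun i => by
    have := isAffine_directedAffineCover Y i
    have h1 : PreservesColimitsOfShape J (FEt.restrict (Y.directedAffineCover.f i)) :=
      preserves_restrict_affineOpen Y i
    have h2 : PreservesColimitsOfShape J (FEt.restrict (pullback.snd f (Y.directedAffineCover.f i))) :=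
      preserves_of_isAffine_target _
    have h3 : PreservesColimitsOfShape J
        (FEt.restrict (Y.directedAffineCover.f i) ⋙ FEt.restrict (pullback.snd f (Y.directedAffineCover.f i))) :=
      comp_preservesColimitsOfShape _ _
    exact preservesColimitsOfShape_of_natIso
      ((restrictCompIso _ _).symm ≪≫ restrictCongr pullback.condition.symm)

instance preservesFiniteColimits_restrict (f : X ⟶ Y) : PreservesFiniteColimits (FEt.restrict f) :=
  ⟨fun _ _ _ => preserves_restrict f⟩

end preservation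

end Groth.Pi1FEt
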