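import Groth.Agent.Pi1FEt.FullClopen
import Groth.Agent.SitesTopoi.Clopen
import Mathlib.AlgebraicGeometry.Morphisms.FlatMono
import Mathlib.AlgebraicGeometry.Morphisms.QuasiSeparated
import Mathlib.Topology.Homeomorph.Lemmas

/-!
# An equivalence on finite étale covers gives a homeomorphism on connected components
-/

universe u

set_option autoImplicit false
set_option backward.isDefEq.respectTransparency false

open CategoryTheory CategoryTheory.Limits AlgebraicGeometry TopologicalSpace

namespace Groth.Pi1FEt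

variable {X Y : Scheme.{u}}

/-- The finite étale cover given by a clopen subset. -/
noncomputable def clopenCover (C : Set Y) (hC : IsClopen C) : FEt.Cat Y :=
  MorphismProperty.Over.mk ⊤ (Scheme.Opens.ι ⟨C, hC.2⟩) <| by
    have : IsClosedImmersion (Scheme.Opens.ι (⟨C, hC.2⟩ : Y.Opens)) :=
      .of_isPreimmersion _ (by rw [Scheme.Opens.range_ι]; exact hC.1)
    exact ⟨inferInstance, inferInstance⟩

theorem range_clopenCover (C : Set Y) (hC : IsClopen C) :
    Set.range (clopenCover C hC).hom.base = C := Scheme.Opens.range_ι _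

theorem range_restrict_clopenCover (f : X ⟶ Y) (C : Set Y) (hC : IsClopen C) :
    Set.range ((FEt.restrict f).obj (clopenCover C hC)).hom.base = f.base ⁻¹' C := by
  change Set.range (pullback.snd (clopenCover C hC).hom f).base = _
  rw [Scheme.Pullback.range_snd, range_clopenCover]
  rfl

/-- A full restriction functor reflects inclusions of clopens. -/
theorem subset_of_preimage_subset (f : X ⟶ Y) [(FEt.restrict f).Full] {C₁ C₂ : Set Y}
    (h₁ : IsClopen C₁) (h₂ : IsClopen C₂) (h : f.base ⁻¹' C₁ ⊆ f.base ⁻¹' C₂) : C₁ ⊆ C₂ := by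
  let P := pullback.snd (clopenCover C₁ h₁).hom f
  let Q := pullback.snd (clopenCover C₂ h₂).hom f
  have : IsOpenImmersion (clopenCover C₂ h₂).hom := inferInstanceAs (IsOpenImmersion (Scheme.Opens.ι _))
  have hr : Set.range P.base ⊆ Set.range Q.base := by
    have e1 := range_restrict_clopenCover f C₁ h₁
    have e2 := range_restrict_clopenCover f C₂ h₂
    exact e1.le.trans (h.trans e2.ge)
  let φ : (FEt.restrict f).obj (clopenCover C₁ h₁) ⟶ (FEt.restrict f).obj (clopenCover C₂ h₂) :=
    MorphismProperty.Over.homMk (IsOpenImmersion.lift Q P hr) (IsOpenImmersion.lift_fac _ _ _)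
  obtain ⟨ψ, -⟩ := (FEt.restrict f).map_surjective φ
  intro y hy
  rw [← range_clopenCover C₁ h₁] at hy
  obtain ⟨z, rfl⟩ := hy
  rw [← range_clopenCover C₂ h₂]
  refine ⟨ψ.left z, ?_⟩
  have hw : ψ.left ≫ (clopenCover C₂ h₂).hom = (clopenCover C₁ h₁).hom := MorphismProperty.Over.w ψ
  exact congr($(hw).base z)

/-- Clopens descend along an equivalence on finite étale covers. -/
theorem exists_clopen_preimage (f : X ⟶ Y) [(FEt.restrict f).IsEquivalence] (D : Set X) (hD : IsClopen D) :
    ∃ C : Set Y, IsClopen C ∧ f.base ⁻¹' C = D := by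
  let A := (FEt.restrict f).objPreimage (clopenCover D hD)
  let e := (FEt.restrict f).objObjPreimageIso (clopenCover D hD)
  have : IsFinite A.hom := A.prop.1
  have : Etale A.hom := A.prop.2
  have hmonoD : Mono (clopenCover D hD).hom := inferInstanceAs (Mono (Scheme.Opens.ι _))
  have : IsIso e.hom.left :=
    ((MorphismProperty.Over.forget _ _ _ ⋙ Over.forget _).mapIso e).isIso_hom
  have hmonoA₀ : Mono ((FEt.restrict f).obj A).hom := by
    rw [← MorphismProperty.Over.w e.hom]
    exact mono_comp _ _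
  let AA : FEt.Cat Y := MorphismProperty.Over.mk ⊤ (pullback.fst A.hom A.hom ≫ A.hom)
    ⟨inferInstance, inferInstance⟩
  let p₁ : AA ⟶ A := MorphismProperty.Over.homMk (pullback.fst A.hom A.hom) rfl
  let p₂ : AA ⟶ A := MorphismProperty.Over.homMk (pullback.snd A.hom A.hom) pullback.condition.symm
  have h12 : p₁ = p₂ := (FEt.restrict f).map_injective <| by
    apply MorphismProperty.Over.Hom.ext
    rw [← cancel_mono ((FEt.restrict f).obj A).hom]
    exact (MorphismProperty.Over.w ((FEt.restrict f).map p₁)).trans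
      (MorphismProperty.Over.w ((FEt.restrict f).map p₂)).symm
  have h : pullback.fst A.hom A.hom = pullback.snd A.hom A.hom :=
    congrArg (fun φ : AA ⟶ A => φ.left) h12
  have : Mono A.hom := ⟨fun g₁ g₂ hg => by
    rw [← pullback.lift_fst g₁ g₂ hg, h, pullback.lift_snd]⟩
  have : IsOpenImmersion A.hom := IsOpenImmersion.of_flat_of_mono A.hom
  have : IsClosedImmersion A.hom := (IsClosedImmersion.iff_isFinite_and_mono A.hom).2 ⟨inferInstance, inferInstance⟩
  refine ⟨Set.range A.hom.base, ⟨A.hom.isClosedEmbedding.isClosed_range, A.hom.isOpenEmbedding.isOpen_range⟩, ?_⟩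
  rw [← range_clopenCover D hD]
  refine (Scheme.Pullback.range_snd A.hom f).symm.trans ?_
  have h' : e.hom.left ≫ (clopenCover D hD).hom = pullback.snd A.hom f := MorphismProperty.Over.w e.hom
  rw [← h']
  ext x
  constructor
  · rintro ⟨y, rfl⟩; exact ⟨e.hom.left y, rfl⟩
  · rintro ⟨y, rfl⟩
    refine ⟨(inv e.hom.left) y, ?_⟩
    change (inv e.hom.left ≫ e.hom.left ≫ (clopenCover D hD).hom) y = _
    rw [IsIso.inv_hom_id_assoc]
    rfl

theorem mk_eq_mk_iff_clopen {T : Type u} [TopologicalSpace T] [CompactSpace T] [PrespectralSpace T]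
    [QuasiSeparatedSpace T] (x y : T) :
    ConnectedComponents.mk x = ConnectedComponents.mk y ↔ ∀ Z : Set T, IsClopen Z → (x ∈ Z ↔ y ∈ Z) := by
  rw [ConnectedComponents.coe_eq_coe']
  constructor
  · intro h Z hZ
    exact ⟨fun hx => by_contra fun hy => (hZ.compl.connectedComponent_subset hy h) hx,
      fun hy => hZ.connectedComponent_subset hy h⟩
  · intro h
    rw [Groth.SitesTopoi.connectedComponent_eq_sInter]
    exact fun Z hZ => (h Z hZ.1).2 hZ.2

/-- Equivalence on finite étale covers gives a homeomorphism on connected components. -/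
theorem isHomeomorph_connectedComponentsMap [CompactSpace X] [QuasiSeparatedSpace X] [CompactSpace Y]
    [QuasiSeparatedSpace Y] (f : X ⟶ Y) [(FEt.restrict f).IsEquivalence] :
    IsHomeomorph f.continuous.connectedComponentsMap := by
  have : CompactSpace (ConnectedComponents X) := Quotient.compactSpace
  have : T2Space (ConnectedComponents Y) := by
    refine ⟨fun a b hab => ?_⟩
    obtain ⟨x, rfl⟩ := ConnectedComponents.surjective_coe a
    obtain ⟨y, rfl⟩ := ConnectedComponents.surjective_coe b
    rw [Ne, mk_eq_mk_iff_clopen] at hab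
    push Not at hab
    obtain ⟨Z, hZ, hZxy⟩ := hab
    have himg : ∀ W : Set Y, IsClopen W → IsOpen (ConnectedComponents.mk '' W) := fun W hW =>
      ConnectedComponents.isQuotientMap_coe.isOpen_preimage.1 (by
        convert hW.2 using 1
        refine (Set.subset_preimage_image _ _).antisymm' ?_
        rintro z ⟨w, hw, hwz⟩
        exact (((mk_eq_mk_iff_clopen w z).1 hwz) W hW).1 hw)
    have hdisj : Disjoint (ConnectedComponents.mk '' Z) (ConnectedComponents.mk '' Zᶜ) := by
      rw [Set.disjoint_left]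
      rintro _ ⟨w, hw, rfl⟩ ⟨v, hv, hvw⟩
      exact hv ((((mk_eq_mk_iff_clopen v w).1 hvw) Z hZ).2 hw)
    rcases hZxy with ⟨h1, h2⟩ | ⟨h1, h2⟩
    · exact ⟨_, _, himg Z hZ, himg Zᶜ hZ.compl, ⟨x, h1, rfl⟩, ⟨y, h2, rfl⟩, hdisj⟩
    · exact ⟨_, _, himg Zᶜ hZ.compl, himg Z hZ, ⟨x, h1, rfl⟩, ⟨y, h2, rfl⟩, hdisj.symm⟩
  rw [isHomeomorph_iff_continuous_bijective]
  refine ⟨f.continuous.connectedComponentsMap_continuous, ?_, ?_⟩
  · intro a b hab
    obtain ⟨x, rfl⟩ := ConnectedComponents.surjective_coe a
    obtain ⟨x', rfl⟩ := ConnectedComponents.surjective_coe b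
    refine (mk_eq_mk_iff_clopen x x').2 fun D hD => ?_
    obtain ⟨C, hC, rfl⟩ := exists_clopen_preimage f D hD
    exact (mk_eq_mk_iff_clopen (f.base x) (f.base x')).1 hab C hC
  · intro b
    obtain ⟨y, rfl⟩ := ConnectedComponents.surjective_coe b
    let ι := {C : Set Y // IsClopen C ∧ y ∈ C}
    have : Nonempty ι := ⟨⟨Set.univ, isClopen_univ, trivial⟩⟩
    obtain ⟨x, hx⟩ : (⋂ C : ι, f.base ⁻¹' C.1).Nonempty := by
      refine IsCompact.nonempty_iInter_of_directed_nonempty_isCompact_isClosed _ ?_ ?_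
        (fun C => (C.2.1.1.preimage f.continuous).isCompact) (fun C => C.2.1.1.preimage f.continuous)
      · intro A B
        exact ⟨⟨A.1 ∩ B.1, A.2.1.inter B.2.1, A.2.2, B.2.2⟩, fun z hz => hz.1, fun z hz => hz.2⟩
      · intro C
        rw [Set.nonempty_iff_ne_empty]
        intro h0
        exact subset_of_preimage_subset f C.2.1 isClopen_empty (by rw [h0]; exact Set.empty_subset _) C.2.2
    refine ⟨ConnectedComponents.mk x, (mk_eq_mk_iff_clopen (f.base x) y).2 fun Z hZ => ?_⟩
    constructor
    · intro hxZ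
      by_contra hy
      exact Set.mem_iInter.1 hx ⟨Zᶜ, hZ.compl, hy⟩ hxZ
    · intro hy
      exact Set.mem_iInter.1 hx ⟨Z, hZ, hy⟩

end Groth.Pi1FEt
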