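import Groth.Agent.Pi1FEt.FullClopen
import Mathlib.AlgebraicGeometry.Morphisms.Flat
import Mathlib.RingTheory.IsTensorProduct
import Mathlib.RingTheory.Finiteness.ModuleFinitePresentation
import Mathlib.RingTheory.Flat.EquationalCriterion
import Mathlib.RingTheory.RingHom.Finite

/-!
# `O_S = f_* O_X` is stable under finite locally free base change; clopens correspond
-/

universe u

set_option autoImplicit false
set_option backward.isDefEq.respectTransparency false

open CategoryTheory CategoryTheory.Limits AlgebraicGeometry TopologicalSpace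

namespace Groth.Pi1FEt

/-- Restriction of sections. -/
noncomputable abbrev res' {Z : Scheme.{u}} {U W : Z.Opens} (h : W ≤ U) (s : Γ(Z, U)) : Γ(Z, W) :=
  Z.presheaf.map (homOfLE h).op s

theorem res'_res' {Z : Scheme.{u}} {U W W' : Z.Opens} (h : W ≤ U) (h' : W' ≤ W) (s : Γ(Z, U)) :
    res' h' (res' h s) = res' (h'.trans h) s := by
  simp only [res', ← CommRingCat.comp_apply, ← Functor.map_comp, ← op_comp, homOfLE_comp]

theorem res'_self {Z : Scheme.{u}} {U : Z.Opens} (h : U ≤ U) (s : Γ(Z, U)) : res' h s = s := by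
  simp [res', show homOfLE h = 𝟙 U from rfl]

/-- Existence of an idempotent with given clopen non-vanishing locus. -/
theorem exists_idem_of_clopen {Z : Scheme.{u}} (U : Z.Opens) (C : Set Z) (hC : IsClopen C) :
    ∃ e : Γ(Z, U), e * e = e ∧ (Z.basicOpen e : Set Z) = C ∩ U := by
  let W : Bool → Z.Opens := fun b => cond b (⟨C, hC.2⟩ ⊓ U) (⟨Cᶜ, hC.1.isOpen_compl⟩ ⊓ U)
  have hW : ∀ b, W b ≤ U := by rintro (_ | _) <;> exact inf_le_right
  have hc : U ≤ ⨆ b, W b := fun x hx => by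
    by_cases h : x ∈ C
    · exact Opens.mem_iSup.2 ⟨true, h, hx⟩
    · exact Opens.mem_iSup.2 ⟨false, h, hx⟩
  let v : ∀ b, Γ(Z, W b) := fun b => cond b 1 0
  have hv : TopCat.Presheaf.IsCompatible Z.sheaf.1 W v := by
    intro b b'
    by_cases hb : b = b'
    · subst hb; rfl
    · have : Subsingleton Γ(Z, W b ⊓ W b') := CommRingCat.subsingleton_of_isTerminal
        (Z.sheaf.isTerminalOfEqEmpty (SetLike.ext' (Set.eq_empty_iff_forall_notMem.2 fun x hx => by
          cases b <;> cases b' <;> first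
            | exact hb rfl
            | exact hx.1.1 hx.2.1
            | exact hx.2.1 hx.1.1)))
      exact this.elim _ _
  obtain ⟨e, he, -⟩ := Z.sheaf.existsUnique_gluing' W U (fun b => homOfLE (hW b)) hc v hv
  replace he : ∀ b, res' (hW b) e = v b := he
  refine ⟨e, ?_, ?_⟩
  · refine TopCat.Sheaf.eq_of_locally_eq' Z.sheaf W U (fun b => homOfLE (hW b)) hc _ _ fun b => ?_
    change res' (hW b) (e * e) = res' (hW b) e
    rw [show res' (hW b) (e * e) = res' (hW b) e * res' (hW b) e from map_mul _ _ _, he]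
    cases b <;> simp [v]
  · have h1 : ∀ b, W b ⊓ Z.basicOpen e = Z.basicOpen (v b) := fun b => by
      rw [← he b]; exact (Z.basicOpen_res e (homOfLE (hW b)).op).symm
    ext x
    constructor
    · intro hx
      have hxU := Z.basicOpen_le e hx
      refine ⟨by_contra fun hxC => ?_, hxU⟩
      have : x ∈ W false ⊓ Z.basicOpen e := ⟨⟨hxC, hxU⟩, hx⟩
      rw [h1 false] at this
      simp [v] at this
    · intro ⟨hxC, hxU⟩
      have : x ∈ Z.basicOpen (v true) := by
        rw [show Z.basicOpen (v true) = W true from Z.basicOpen_of_isUnit (by simp [v])]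
        exact ⟨hxC, hxU⟩
      exact ((h1 true).ge this).2

/-- An idempotent with empty non-vanishing locus is zero. -/
theorem idem_eq_zero {Z : Scheme.{u}} {U : Z.Opens} {e : Γ(Z, U)} (he : e * e = e)
    (h : Z.basicOpen e = ⊥) : e = 0 := by
  have hu : IsUnit (1 - e) := by
    refine RingedSpace.isUnit_of_isUnit_germ _ U _ fun x hx => ?_
    rw [map_sub, map_one]
    refine (IsLocalRing.isUnit_or_isUnit_one_sub_self (Z.presheaf.germ U x hx e)).resolve_left fun hx' => ?_
    have : x ∈ Z.basicOpen e := (Z.mem_basicOpen e x hx).2 hx'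
    rw [h] at this
    exact this
  exact hu.mul_left_eq_zero.1 (by rw [mul_sub, mul_one, he, sub_self] : e * (1 - e) = 0)

section baseChange

variable {A₀ A X S : Scheme.{u}} {g : A₀ ⟶ A} {π : A₀ ⟶ X} {a : A ⟶ S} {f : X ⟶ S}
  (H : IsPullback g π a f) {V : S.Opens}

include H in
theorem preimage_le_of_isPullback : g ⁻¹ᵁ (a ⁻¹ᵁ V) ≤ π ⁻¹ᵁ (f ⁻¹ᵁ V) := fun x hx => by
  change f (π x) ∈ V
  have h : f (π x) = a (g x) := congr(($(H.w.symm)).base x)
  rw [h]; exact hx

variable (hV : IsAffineOpen V) [IsFinite a] [Flat a] [LocallyOfFinitePresentation a]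

include H hV in
/-- `O = f_* O` is stable under finite locally free base change. -/
theorem bijective_app_baseChange (hf : ∀ U : S.Opens, Function.Bijective (f.app U)) :
    Function.Bijective (g.app (a ⁻¹ᵁ V)) := by
  classical
  let B := Γ(A, a ⁻¹ᵁ V)
  letI : Algebra Γ(S, V) B := (a.app V).hom.toAlgebra
  haveI : Module.Finite Γ(S, V) B := IsFinite.finite_app (f := a) V hV
  haveI : Module.Flat Γ(S, V) B := by
    have := a.flat_appLE hV (hV.preimage a) le_rfl
    rw [Scheme.Hom.appLE_eq_app] at this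
    exact this
  haveI : Algebra.FinitePresentation Γ(S, V) B := by
    have := HasRingHomProperty.appLE (P := @LocallyOfFinitePresentation) a inferInstance ⟨V, hV⟩
      ⟨a ⁻¹ᵁ V, hV.preimage a⟩ le_rfl
    rw [Scheme.Hom.appLE_eq_app] at this
    exact this
  haveI : Module.FinitePresentation Γ(S, V) B := Module.FinitePresentation.of_finite_of_finitePresentation _ _
  haveI : Module.Projective Γ(S, V) B := Module.Flat.projective_of_finitePresentation
  obtain ⟨n, pr, sec, -, -, hps⟩ := Module.Finite.exists_comp_eq_id_of_projective Γ(S, V) B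
  let b : Fin n → B := fun i => pr (Pi.single i 1)
  have hdual : ∀ x : B, x = ∑ i, sec x i • b i := fun x => by
    conv_lhs => rw [← LinearMap.id_apply (R := Γ(S, V)) x, ← hps, LinearMap.comp_apply,
      pi_eq_sum_univ' (sec x), map_sum]
    simp [b, map_smul]
  let Aff := {W : X.Opens // IsAffineOpen W ∧ W ≤ f ⁻¹ᵁ V}
  let UY : Aff → A₀.Opens := fun W => g ⁻¹ᵁ (a ⁻¹ᵁ V) ⊓ π ⁻¹ᵁ W.1
  let ιA : ∀ W : Aff, B →+* Γ(A₀, UY W) := fun W => (g.appLE (a ⁻¹ᵁ V) (UY W) inf_le_left).hom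
  let ιX : ∀ W : Aff, Γ(X, W.1) →+* Γ(A₀, UY W) := fun W => (π.appLE W.1 (UY W) inf_le_right).hom
  let rW : ∀ W : Aff, Γ(S, V) →+* Γ(X, W.1) := fun W => (f.appLE V W.1 W.2.2).hom
  -- coordinates on each piece
  have hcoord : ∀ W : Aff, ∃ ψ : Fin n → Γ(A₀, UY W) → Γ(X, W.1),
      (∀ i x y, ψ i (ιA W x * ιX W y) = rW W (sec x i) * y) ∧ (∀ i s t, ψ i (s + t) = ψ i s + ψ i t) ∧
      (∀ i, ψ i 0 = 0) ∧ ∀ s, s = ∑ i, ιA W (b i) * ιX W (ψ i s) := fun W => by
    have hpo := (isIso_pushoutSection_iff H W.2.2 le_rfl (UY := UY W) rfl).1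
      (isIso_pushoutSection_of_isAffineOpen H W.2.2 le_rfl rfl hV W.2.1 (hV.preimage a))
    rw [Scheme.Hom.appLE_eq_app] at hpo
    letI : Algebra Γ(S, V) Γ(X, W.1) := (rW W).toAlgebra
    letI : Algebra B Γ(A₀, UY W) := (ιA W).toAlgebra
    letI : Algebra Γ(X, W.1) Γ(A₀, UY W) := (ιX W).toAlgebra
    letI : Algebra Γ(S, V) Γ(A₀, UY W) := ((ιA W).comp (a.app V).hom).toAlgebra
    haveI : IsScalarTower Γ(S, V) B Γ(A₀, UY W) := IsScalarTower.of_algebraMap_eq' rfl
    haveI : IsScalarTower Γ(S, V) Γ(X, W.1) Γ(A₀, UY W) :=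
      IsScalarTower.of_algebraMap_eq' (congrArg (fun φ => φ.hom) hpo.w)
    haveI hP : Algebra.IsPushout Γ(S, V) Γ(X, W.1) B Γ(A₀, UY W) :=
      CommRingCat.isPushout_iff_isPushout.1 hpo.flip
    let lin : Fin n → B →ₗ[Γ(S, V)] Γ(X, W.1) := fun i =>
      (Algebra.linearMap Γ(S, V) Γ(X, W.1)).comp ((LinearMap.proj i).comp sec)
    let ψ : Fin n → Γ(A₀, UY W) →ₗ[Γ(X, W.1)] Γ(X, W.1) := fun i => hP.out.lift (lin i)
    have h1 : ∀ i x y, ψ i (ιA W x * ιX W y) = rW W (sec x i) * y := fun i x y => by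
      rw [mul_comm]
      change ψ i (algebraMap _ _ y * _) = _
      rw [← Algebra.smul_def, map_smul, smul_eq_mul, mul_comm]
      congr 1
      exact hP.out.lift_eq _ x
    refine ⟨fun i => ψ i, h1, fun i => map_add (ψ i), fun i => map_zero (ψ i), ?_⟩
    suffices h : (∑ i, (ψ i).smulRight (ιA W (b i))) = LinearMap.id by
      intro s
      have h2 := LinearMap.congr_fun h s
      simp only [LinearMap.sum_apply, LinearMap.smulRight_apply, LinearMap.id_apply, Algebra.smul_def] at h2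
      conv_lhs => rw [← h2]
      exact Finset.sum_congr rfl fun i _ => mul_comm _ _
    refine hP.out.algHom_ext _ _ fun x => ?_
    simp only [LinearMap.sum_apply, LinearMap.smulRight_apply, LinearMap.id_apply]
    change ∑ i, ψ i (ιA W x) • ιA W (b i) = ιA W x
    conv_rhs => rw [hdual x, map_sum]
    refine Finset.sum_congr rfl fun i _ => ?_
    have h3 := h1 i x 1
    rw [map_one, mul_one, mul_one] at h3
    rw [h3, Algebra.smul_def, Algebra.smul_def, map_mul, mul_comm, mul_comm (ιA W _)]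
    congr 1
    exact (congrArg (fun φ => φ.hom (sec x i)) hpo.w).symm
  choose ψ hψ hψadd hψ0 hψsum using hcoord
  have hι : ∀ (W : Aff) (x : B), ιA W x = res' inf_le_left (g.app (a ⁻¹ᵁ V) x) := fun W x => rfl
  have hfres : ∀ (W : Aff) (c : Γ(S, V)), res' W.2.2 (f.app V c) = rW W c := fun W c => by
    simp only [rW, Scheme.Hom.appLE, res', CommRingCat.comp_apply]
  have hcov : f ⁻¹ᵁ V ≤ ⨆ W : Aff, W.1 := fun x hx => by
    obtain ⟨_, ⟨W, hW, rfl⟩, hxW, hWV⟩ := X.isBasis_affineOpens.exists_subset_of_mem_open hx (f ⁻¹ᵁ V).isOpen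
    exact Opens.mem_iSup.2 ⟨⟨W, hW, hWV⟩, hxW⟩
  refine ⟨?_, fun s₀ => ?_⟩
  · rw [injective_iff_map_eq_zero]
    intro x hx
    rw [hdual x]
    refine Finset.sum_eq_zero fun i _ => ?_
    suffices sec x i = 0 by rw [this, zero_smul]
    apply (hf V).1
    rw [map_zero]
    refine TopCat.Sheaf.eq_of_locally_eq' X.sheaf (fun W : Aff => W.1) _ (fun W => homOfLE W.2.2) hcov _ _ fun W => ?_
    change res' W.2.2 (f.app V (sec x i)) = res' W.2.2 0
    rw [hfres, show res' W.2.2 (0 : Γ(X, f ⁻¹ᵁ V)) = 0 from map_zero _]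
    have := hψ W i x 1
    rw [map_one, mul_one, mul_one, hι, hx, show res' inf_le_left (0 : Γ(A₀, g ⁻¹ᵁ (a ⁻¹ᵁ V))) = (0 : Γ(A₀, UY W)) from map_zero _, hψ0] at this
    exact this.symm
  · have hUYle : ∀ W : Aff, UY W ≤ g ⁻¹ᵁ (a ⁻¹ᵁ V) := fun _ => inf_le_left
    let s : ∀ W : Aff, Γ(A₀, UY W) := fun W => res' (hUYle W) s₀
    -- naturality of the coordinates
    have nat : ∀ (i) (W W' : Aff) (hle : W'.1 ≤ W.1) (t : Γ(A₀, UY W)),
        res' hle (ψ W i t) = ψ W' i (res' (inf_le_inf_left _ ((Opens.map π.base).map (homOfLE hle)).le) t) := by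
      intro i W W' hle t
      have hUle : UY W' ≤ UY W := inf_le_inf_left _ ((Opens.map π.base).map (homOfLE hle)).le
      change res' hle (ψ W i t) = ψ W' i (res' hUle t)
      have hA : ∀ x, res' hUle (ιA W x) = ιA W' x := fun x => by rw [hι, hι, res'_res']
      have hX : ∀ y, res' hUle (ιX W y) = ιX W' (res' hle y) := fun y => by
        simp only [ιX, res', ← CommRingCat.comp_apply, Scheme.Hom.appLE_map, Scheme.Hom.map_appLE]
      have key : ∀ (k : Fin n) (y : Γ(X, W.1)), res' hle (ψ W i (ιA W (b k) * ιX W y)) =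
          ψ W' i (res' hUle (ιA W (b k) * ιX W y)) := fun k y => by
        rw [hψ, show res' hUle (ιA W (b k) * ιX W y) = res' hUle (ιA W (b k)) * res' hUle (ιX W y) from map_mul _ _ _,
          hA, hX, hψ, show res' hle (rW W (sec (b k) i) * y) = res' hle (rW W (sec (b k) i)) * res' hle y from map_mul _ _ _,
          ← hfres, ← hfres, res'_res']
      let L : Γ(A₀, UY W) →+ Γ(X, W'.1) :=
        ((X.presheaf.map (homOfLE hle).op).hom.toAddMonoidHom).comp (AddMonoidHom.mk' (ψ W i) (hψadd W i))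
      let R : Γ(A₀, UY W) →+ Γ(X, W'.1) :=
        (AddMonoidHom.mk' (ψ W' i) (hψadd W' i)).comp (A₀.presheaf.map (homOfLE hUle).op).hom.toAddMonoidHom
      change L t = R t
      rw [hψsum W t, map_sum, map_sum]
      exact Finset.sum_congr rfl fun k _ => key k _
    have hglue : ∀ i, ∃ c : Γ(X, f ⁻¹ᵁ V), ∀ W : Aff, res' W.2.2 c = ψ W i (s W) := fun i => by
      have hcomp : TopCat.Presheaf.IsCompatible X.sheaf.1 (fun W : Aff => W.1) fun W => ψ W i (s W) := by
        intro W W'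
        let I := {W'' : Aff // W''.1 ≤ W.1 ⊓ W'.1}
        refine TopCat.Sheaf.eq_of_locally_eq' X.sheaf (fun K : I => K.1.1) _ (fun K => homOfLE K.2) ?_ _ _ fun K => ?_
        · intro x hx
          obtain ⟨_, ⟨K, hK, rfl⟩, hxK, hKle⟩ :=
            X.isBasis_affineOpens.exists_subset_of_mem_open hx (W.1 ⊓ W'.1).isOpen
          exact Opens.mem_iSup.2 ⟨⟨⟨K, hK, fun y hy => W.2.2 (hKle hy).1⟩, hKle⟩, hxK⟩
        change res' K.2 (res' inf_le_left (ψ W i (s W))) = res' K.2 (res' inf_le_right (ψ W' i (s W')))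
        rw [res'_res', res'_res', nat i W K.1, nat i W' K.1]
        simp only [s, res'_res']
      obtain ⟨c, hc, -⟩ := X.sheaf.existsUnique_gluing' (fun W : Aff => W.1) (f ⁻¹ᵁ V) (fun W => homOfLE W.2.2) hcov _ hcomp
      exact ⟨c, hc⟩
    choose c hc using hglue
    choose r hr using fun i => (hf V).2 (c i)
    refine ⟨∑ i, r i • b i, ?_⟩
    refine TopCat.Sheaf.eq_of_locally_eq' A₀.sheaf UY _ (fun W => homOfLE (hUYle W)) ?_ _ _ fun W => ?_
    · intro x hx
      obtain ⟨W, hxW⟩ := Opens.mem_iSup.1 (hcov (preimage_le_of_isPullback H hx))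
      exact Opens.mem_iSup.2 ⟨W, hx, hxW⟩
    change res' (hUYle W) (g.app (a ⁻¹ᵁ V) (∑ i, r i • b i)) = s W
    rw [← hι, hψsum W (s W), map_sum]
    refine Finset.sum_congr rfl fun i _ => ?_
    rw [← hc i W, ← hr i, hfres, Algebra.smul_def, map_mul, mul_comm]
    congr 1
    simp only [ιA, ιX, rW, RingHom.algebraMap_toAlgebra, ← CommRingCat.comp_apply,
      Scheme.Hom.appLE_comp_appLE, Scheme.Hom.app_eq_appLE]
    rw [← RingHom.comp_apply, ← CommRingCat.hom_comp, Scheme.Hom.appLE_comp_appLE]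
    simp only [H.w]

end baseChange

variable {X Y : Scheme.{u}}

/-- Clopens of covers correspond under a morphism with `O_Y = f_* O_X`. -/
theorem restrict_full_faithful_of_bijective_app (f : X ⟶ Y) (hf : ∀ U : Y.Opens, Function.Bijective (f.app U)) :
    (FEt.restrict f).Full ∧ (FEt.restrict f).Faithful := by
  have hbij : ∀ (A : FEt.Cat Y) (V : Y.affineOpens),
      Function.Bijective ((pullback.fst A.hom f).app (A.hom ⁻¹ᵁ V.1)) := fun A V => by
    have : IsFinite A.hom := A.prop.1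
    have : Etale A.hom := A.prop.2
    exact bijective_app_baseChange (IsPullback.of_hasPullback A.hom f) V.2 hf
  have hinj : ∀ (A : FEt.Cat Y) (C : Set ↥A.left), IsClopen C →
      Set.range (pullback.fst A.hom f).base ⊆ C → C = Set.univ := by
    intro A C hC hsub
    refine Set.eq_univ_iff_forall.2 fun z => by_contra fun hz => ?_
    obtain ⟨_, ⟨V, hV, rfl⟩, hzV, -⟩ :=
      Y.isBasis_affineOpens.exists_subset_of_mem_open (Set.mem_univ (A.hom z)) isOpen_univ
    obtain ⟨e, he, hD⟩ := exists_idem_of_clopen (A.hom ⁻¹ᵁ V) Cᶜ hC.compl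
    have he0 : e = 0 := (hbij A ⟨V, hV⟩).1 (by
      rw [map_zero]
      refine idem_eq_zero (by rw [← map_mul, he]) ?_
      rw [← Scheme.preimage_basicOpen]
      exact SetLike.ext' (Set.eq_empty_iff_forall_notMem.2 fun x hx => (hD.le hx).1 (hsub ⟨x, rfl⟩)))
    have : z ∈ A.left.basicOpen e := hD.ge ⟨hz, hzV⟩
    rw [he0] at this
    simp at this
  refine ⟨restrict_full_of_clopen f hinj fun A C₀ hC₀ => ?_, Pi1Etale.restrict_faithful_of_clopen f hinj⟩
  choose e₀ he₀ hD₀ using fun V : Y.affineOpens =>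
    exists_idem_of_clopen (pullback.fst A.hom f ⁻¹ᵁ (A.hom ⁻¹ᵁ V.1)) C₀ hC₀
  choose e he using fun V : Y.affineOpens => (hbij A V).2 (e₀ V)
  have hidem : ∀ V, e V * e V = e V := fun V => (hbij A V).1 (by rw [map_mul, he, he₀])
  have hpre : ∀ (V : Y.affineOpens) x, pullback.fst A.hom f x ∈ A.left.basicOpen (e V) ↔
      (x ∈ C₀ ∧ A.hom (pullback.fst A.hom f x) ∈ V.1) := fun V x => by
    have h1 : pullback.fst A.hom f ⁻¹ᵁ A.left.basicOpen (e V) = (pullback A.hom f).basicOpen (e₀ V) := by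
      refine (Scheme.preimage_basicOpen _ _).trans ?_
      exact congrArg _ (he V)
    exact ⟨fun hx => (hD₀ V).le (h1.le hx), fun hx => h1.ge ((hD₀ V).ge hx)⟩
  have hres : ∀ (V V' : Y.affineOpens) (h : V'.1 ≤ V.1),
      res' ((Opens.map A.hom.base).map (homOfLE h)).le (e V) = e V' := fun V V' h => by
    refine (hbij A V').1 ?_
    have hle : pullback.fst A.hom f ⁻¹ᵁ (A.hom ⁻¹ᵁ V'.1) ≤ pullback.fst A.hom f ⁻¹ᵁ (A.hom ⁻¹ᵁ V.1) :=
      fun x hx => h hx
    have h1 : (pullback.fst A.hom f).app _ (res' ((Opens.map A.hom.base).map (homOfLE h)).le (e V)) = res' hle (e₀ V) := by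
      rw [← he V]
      exact congrArg (fun φ => φ.hom (e V))
        ((pullback.fst A.hom f).naturality ((Opens.map A.hom.base).map (homOfLE h)).op)
    rw [h1, he V']
    set d := res' hle (e₀ V)
    set d' := e₀ V'
    have hd : d * d = d := by rw [← map_mul, he₀]
    have hbo : ∀ x, x ∈ (pullback A.hom f).basicOpen d ↔ x ∈ (pullback A.hom f).basicOpen d' := fun x => by
      rw [show (pullback A.hom f).basicOpen d = pullback.fst A.hom f ⁻¹ᵁ (A.hom ⁻¹ᵁ V'.1) ⊓
        (pullback A.hom f).basicOpen (e₀ V) from Scheme.basicOpen_res _ _ _]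
      exact ⟨fun hx => (hD₀ V').ge ⟨((hD₀ V).le hx.2).1, hx.1⟩,
        fun hx => ⟨((hD₀ V').le hx).2, (hD₀ V).ge ⟨((hD₀ V').le hx).1, hle ((hD₀ V').le hx).2⟩⟩⟩
    have hd' : d' * d' = d' := he₀ V'
    have hz : ∀ c c' : Γ(pullback A.hom f, pullback.fst A.hom f ⁻¹ᵁ (A.hom ⁻¹ᵁ V'.1)), c * c = c → c' * c' = c' →
        (∀ x, x ∈ (pullback A.hom f).basicOpen c → x ∈ (pullback A.hom f).basicOpen c') → c * c' = c := by
      intro c c' hc hc' hcc
      refine (sub_eq_zero.1 (idem_eq_zero (e := c - c * c') ?_ ?_)).symm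
      · calc (c - c * c') * (c - c * c') = c * c - 2 * (c * c) * c' + (c * c) * (c' * c') := by ring
          _ = c - c * c' := by rw [hc, hc']; ring
      · refine SetLike.ext' (Set.eq_empty_iff_forall_notMem.2 fun x hx => ?_)
        have hx' : x ∈ (pullback A.hom f).basicOpen (c * (1 - c')) := by rwa [mul_sub, mul_one]
        rw [Scheme.basicOpen_mul] at hx'
        have h2 : x ∈ (pullback A.hom f).basicOpen ((1 - c') * c') := by
          rw [Scheme.basicOpen_mul]; exact ⟨hx'.2, hcc x hx'.1⟩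
        rw [sub_mul, one_mul, hc', sub_self, Scheme.basicOpen_zero] at h2
        exact h2
    rw [← hz d d' hd hd' fun x => (hbo x).1, mul_comm, hz d' d hd' hd fun x => (hbo x).2]
  let C : Set A.left := ⋃ V, (A.left.basicOpen (e V) : Set A.left)
  refine ⟨C, ⟨⟨isOpen_iff_forall_mem_open.2 fun z hz => ?_⟩, isOpen_iUnion fun V => (A.left.basicOpen (e V)).isOpen⟩, ?_⟩
  · obtain ⟨_, ⟨V, hV, rfl⟩, hzV, -⟩ :=
      Y.isBasis_affineOpens.exists_subset_of_mem_open (Set.mem_univ (A.hom z)) isOpen_univ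
    refine ⟨A.left.basicOpen (1 - e ⟨V, hV⟩), fun w hw hwC => ?_, (A.left.basicOpen _).isOpen, ?_⟩
    · obtain ⟨V', hwV'⟩ := Set.mem_iUnion.1 hwC
      obtain ⟨_, ⟨V'', hV'', rfl⟩, hwV'', hle⟩ := Y.isBasis_affineOpens.exists_subset_of_mem_open
        (show A.hom w ∈ V ⊓ V'.1 from ⟨A.left.basicOpen_le _ hw, A.left.basicOpen_le _ hwV'⟩) (V ⊓ V'.1).isOpen
      have hm : ∀ (U : Y.affineOpens) (hU : V'' ≤ U.1), w ∈ A.left.basicOpen (e U) →
          w ∈ A.left.basicOpen (e ⟨V'', hV''⟩) := fun U hU hwU => by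
        rw [← hres U ⟨V'', hV''⟩ hU]
        exact (Scheme.basicOpen_res _ _ _).ge ⟨hwV'', hwU⟩
      have h1 := hm V' (fun y hy => (hle hy).2) hwV'
      rw [← hres ⟨V, hV⟩ ⟨V'', hV''⟩ (fun y hy => (hle hy).1)] at h1
      replace h1 := (Scheme.basicOpen_res _ _ _).le h1
      have h3 : w ∈ A.left.basicOpen ((1 - e ⟨V, hV⟩) * e ⟨V, hV⟩) := by
        rw [Scheme.basicOpen_mul]; exact ⟨hw, h1.2⟩
      rw [sub_mul, one_mul, hidem, sub_self, Scheme.basicOpen_zero] at h3
      exact h3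
    · refine (Scheme.mem_basicOpen A.left (1 - e ⟨V, hV⟩) z hzV).2 ?_
      rw [map_sub, map_one]
      refine (IsLocalRing.isUnit_or_isUnit_one_sub_self _).resolve_left fun hu => hz ?_
      exact Set.mem_iUnion.2 ⟨⟨V, hV⟩, (Scheme.mem_basicOpen A.left (e ⟨V, hV⟩) z hzV).2 hu⟩
  · ext x
    simp only [C, Set.preimage_iUnion, Set.mem_iUnion, Set.mem_preimage, SetLike.mem_coe, hpre]
    refine ⟨fun ⟨V, hx, _⟩ => hx, fun hx => ?_⟩
    obtain ⟨_, ⟨V, hV, rfl⟩, hxV, -⟩ := Y.isBasis_affineOpens.exists_subset_of_mem_open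
      (Set.mem_univ (A.hom (pullback.fst A.hom f x))) isOpen_univ
    exact ⟨⟨V, hV⟩, hx, hxV⟩

end Groth.Pi1FEt
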