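import Groth.Agent.Pi1FEt.AlgCat
import Groth.Prelude.Def_FEt
import Mathlib.AlgebraicGeometry.Morphisms.Finite
import Mathlib.AlgebraicGeometry.Morphisms.Etale
import Mathlib.CategoryTheory.Limits.Preserves.Opposites

/-!
# Finite étale covers of an affine scheme are finite étale algebras
-/

universe u

open CategoryTheory Limits AlgebraicGeometry TensorProduct CommAlgCat Opposite

namespace Groth.Pi1FEt

variable (R : Type u) [CommRing R]

theorem prop_specMap (A : FiniteEtale.{u} R) :
    FEt.prop (Spec.map (CommRingCat.ofHom (algebraMap R A.obj))) :=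
  ⟨(IsFinite.SpecMap_iff _).mpr (RingHom.finite_algebraMap.mpr inferInstance),
    (HasRingHomProperty.Spec_iff (P := @Etale)).mpr (RingHom.etale_algebraMap.mpr inferInstance)⟩

/-- The cover `Spec A` of `Spec R`. -/
noncomputable abbrev specObj (A : FiniteEtale.{u} R) : FEt.Cat (Spec (CommRingCat.of R)) :=
  MorphismProperty.Over.mk ⊤ (Spec.map (CommRingCat.ofHom (algebraMap R A.obj))) (prop_specMap R A)

/-- `A ↦ Spec A`. -/
noncomputable def specFun : (FiniteEtale.{u} R)ᵒᵖ ⥤ FEt.Cat (Spec (CommRingCat.of R)) where
  obj A := specObj R A.unop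
  map {A B} f := MorphismProperty.Over.homMk (Spec.map (CommRingCat.ofHom f.unop.hom.hom.toRingHom))
    (by
      change Spec.map _ ≫ Spec.map _ = Spec.map _
      rw [← Spec.map_comp, ← CommRingCat.ofHom_comp]
      exact congrArg (fun t => Spec.map (CommRingCat.ofHom t)) (AlgHom.comp_algebraMap f.unop.hom.hom))
  map_id A := by
    refine MorphismProperty.Over.Hom.ext ?_
    exact Spec.map_id _
  map_comp f g := by
    refine MorphismProperty.Over.Hom.ext ?_
    exact (congrArg Spec.map (CommRingCat.ofHom_comp g.unop.hom.hom.toRingHom f.unop.hom.hom.toRingHom)).trans (Spec.map_comp _ _)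

instance : (specFun R).Faithful where
  map_injective {A B f g} h := by
    have h1 : Spec.map (CommRingCat.ofHom f.unop.hom.hom.toRingHom) =
        Spec.map (CommRingCat.ofHom g.unop.hom.hom.toRingHom) := congrArg (fun φ => φ.left) h
    refine Quiver.Hom.unop_inj (ObjectProperty.hom_ext _ (CommAlgCat.hom_ext (AlgHom.ext fun x => ?_)))
    exact RingHom.congr_fun (congrArg CommRingCat.Hom.hom (Spec.map_injective h1)) x

instance : (specFun R).Full where
  map_surjective {A B} φ := by
    obtain ⟨ψ, hψ⟩ := Spec.map_surjective φ.left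
    have hcomm : CommRingCat.ofHom (algebraMap R B.unop.obj) ≫ ψ =
        CommRingCat.ofHom (algebraMap R A.unop.obj) := by
      apply Spec.map_injective
      rw [Spec.map_comp, hψ]
      exact MorphismProperty.Over.w φ
    let f : B.unop.obj →ₐ[R] A.unop.obj :=
      { toRingHom := ψ.hom
        commutes' := fun r => RingHom.congr_fun (congrArg CommRingCat.Hom.hom hcomm) r }
    refine ⟨(ObjectProperty.homMk (CommAlgCat.ofHom f)).op, MorphismProperty.Over.Hom.ext ?_⟩
    exact hψ

instance : (specFun R).EssSurj where
  mem_essImage Y := by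
    have hfin : IsFinite Y.hom := Y.prop.1
    have het : Etale Y.hom := Y.prop.2
    have : IsAffine Y.left :=
      isAffine_of_isAffineHom (X := Y.left) (Y := Spec (CommRingCat.of R)) Y.hom
    obtain ⟨φ, hφ⟩ := Spec.map_surjective (Y.left.isoSpec.inv ≫ Y.hom)
    algebraize [φ.hom]
    have hp : FEt.prop (Spec.map φ) := hφ ▸ MorphismProperty.comp_mem _ _ _ ⟨inferInstance, inferInstance⟩ Y.prop
    have : Module.Finite R Γ(Y.left, ⊤) := RingHom.finite_algebraMap.mp ((IsFinite.SpecMap_iff φ).mp hp.1)
    have : Algebra.Etale R Γ(Y.left, ⊤) := RingHom.etale_algebraMap.mp ((HasRingHomProperty.Spec_iff (P := @Etale)).mp hp.2)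
    refine ⟨op (FiniteEtale.of R Γ(Y.left, ⊤)), ⟨MorphismProperty.Over.isoMk Y.left.isoSpec.symm ?_⟩⟩
    exact hφ.symm

instance : (specFun R).IsEquivalence where

variable (S : Type u) [CommRing S] [Algebra R S]

section

variable (A B : Type u) [CommRing A] [CommRing B] [Algebra R A] [Algebra R B]

/-- The base change of `Spec A` along `Spec S ⟶ Spec R`. -/
noncomputable def pullbackSpecIso' :
    Spec (CommRingCat.of (S ⊗[R] A)) ≅
      pullback (Spec.map (CommRingCat.ofHom (algebraMap R A)))
        (Spec.map (CommRingCat.ofHom (algebraMap R S))) :=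
  (pullbackSpecIso R S A).symm ≪≫ pullbackSymmetry _ _

theorem pullbackSpecIso'_hom_fst :
    (pullbackSpecIso' R S A).hom ≫ pullback.fst _ _ =
      Spec.map (CommRingCat.ofHom (Algebra.TensorProduct.includeRight : A →ₐ[R] S ⊗[R] A).toRingHom) := by
  simp only [pullbackSpecIso', Iso.trans_hom, Iso.symm_hom, Category.assoc, pullbackSymmetry_hom_comp_fst]
  exact pullbackSpecIso_inv_snd R S A

theorem pullbackSpecIso'_hom_snd :
    (pullbackSpecIso' R S A).hom ≫ pullback.snd _ _ =
      Spec.map (CommRingCat.ofHom (algebraMap S (S ⊗[R] A))) := by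
  simp only [pullbackSpecIso', Iso.trans_hom, Iso.symm_hom, Category.assoc, pullbackSymmetry_hom_comp_snd]
  exact pullbackSpecIso_inv_fst' R S A

theorem pullbackSpecIso'_natural (g : B →ₐ[R] A)
    (w : (pullback.fst (Spec.map (CommRingCat.ofHom (algebraMap R A)))
        (Spec.map (CommRingCat.ofHom (algebraMap R S))) ≫ Spec.map (CommRingCat.ofHom g.toRingHom)) ≫
          Spec.map (CommRingCat.ofHom (algebraMap R B)) =
        pullback.snd (Spec.map (CommRingCat.ofHom (algebraMap R A)))
          (Spec.map (CommRingCat.ofHom (algebraMap R S))) ≫ Spec.map (CommRingCat.ofHom (algebraMap R S))) :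
    Spec.map (CommRingCat.ofHom (Algebra.TensorProduct.map (AlgHom.id S S) g).toRingHom) ≫
        (pullbackSpecIso' R S B).hom =
      (pullbackSpecIso' R S A).hom ≫ pullback.lift (pullback.fst _ _ ≫ Spec.map (CommRingCat.ofHom g.toRingHom))
        (pullback.snd _ _) w := by
  apply pullback.hom_ext
  · rw [Category.assoc, Category.assoc, pullbackSpecIso'_hom_fst, pullback.lift_fst,
      ← Category.assoc (pullbackSpecIso' R S A).hom, pullbackSpecIso'_hom_fst, ← Spec.map_comp, ← Spec.map_comp,
      ← CommRingCat.ofHom_comp, ← CommRingCat.ofHom_comp]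
    congr 2
  · rw [Category.assoc, Category.assoc, pullbackSpecIso'_hom_snd, pullback.lift_snd, pullbackSpecIso'_hom_snd,
      ← Spec.map_comp, ← CommRingCat.ofHom_comp]
    exact congrArg (fun t => Spec.map (CommRingCat.ofHom t)) (AlgHom.comp_algebraMap (Algebra.TensorProduct.map (AlgHom.id S S) g))

end

/-- Pullback along `Spec S ⟶ Spec R` is base change of algebras. -/
noncomputable def specFunPullbackIso :
    (FiniteEtale.baseChange.{u, u} R S).op ⋙ specFun S ≅
      specFun R ⋙ FEt.restrict (Spec.map (CommRingCat.ofHom (algebraMap R S))) :=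
  NatIso.ofComponents
    (fun A => MorphismProperty.Over.isoMk (pullbackSpecIso' R S A.unop.obj)
      (pullbackSpecIso'_hom_snd R S A.unop.obj))
    (fun {A B} f => MorphismProperty.Over.Hom.ext
      (pullbackSpecIso'_natural R S A.unop.obj B.unop.obj f.unop.hom.hom _))

instance : HasFiniteColimits (FEt.Cat (Spec (CommRingCat.of R))) :=
  ⟨fun _ _ _ => Adjunction.hasColimitsOfShape_of_equivalence (specFun R).inv⟩

instance : PreservesFiniteColimits
    (FEt.restrict (Spec.map (CommRingCat.ofHom (algebraMap R S)))) where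
  preservesFiniteColimits J _ _ := by
    have : PreservesFiniteColimits (FiniteEtale.baseChange.{u, u} R S).op :=
      preservesFiniteColimits_op _
    have h1 : PreservesColimitsOfShape J
        ((FiniteEtale.baseChange.{u, u} R S).op ⋙ specFun S) := inferInstance
    have h2 : PreservesColimitsOfShape J
        (specFun R ⋙ FEt.restrict (Spec.map (CommRingCat.ofHom (algebraMap R S)))) :=
      preservesColimitsOfShape_of_natIso (specFunPullbackIso R S)
    have h3 : PreservesColimitsOfShape J ((specFun R).asEquivalence.inverse ⋙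
        ((specFun R).asEquivalence.functor ⋙ FEt.restrict (Spec.map (CommRingCat.ofHom (algebraMap R S))))) :=
      have : PreservesColimitsOfShape J ((specFun R).asEquivalence.functor ⋙
          FEt.restrict (Spec.map (CommRingCat.ofHom (algebraMap R S)))) := h2
      comp_preservesColimitsOfShape _ _
    exact preservesColimitsOfShape_of_natIso
      ((Functor.associator _ _ _).symm ≪≫
        Functor.isoWhiskerRight (specFun R).asEquivalence.counitIso
          (FEt.restrict (Spec.map (CommRingCat.ofHom (algebraMap R S)))) ≪≫ Functor.leftUnitor _)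

end Groth.Pi1FEt
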