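import Groth.Agent.Pi1FEt.Points
import Groth.Agent.Pi1Quot.SigmaFinite
import Mathlib.AlgebraicGeometry.Morphisms.FlatRank
import Mathlib.AlgebraicGeometry.Morphisms.FormallyUnramified

/-!
# Finite étale covers are split by finite étale covers
-/

universe u

set_option autoImplicit false
set_option backward.isDefEq.respectTransparency false
set_option backward.defeqAttrib.useBackward true
set_option linter.style.haveILetI false

open CategoryTheory Limits AlgebraicGeometry

namespace Groth.Pi1FEt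

/-- The degree is the number of geometric points, at any point. -/
theorem exists_geomPoint_natCard {X S : Scheme.{u}} (φ : X ⟶ S) [IsFinite φ] [Etale φ] (s : S) :
    ∃ (Ω : Type u) (_ : Field Ω) (_ : IsAlgClosed Ω) (ξ : Spec (CommRingCat.of Ω) ⟶ S),
      ξ default = s ∧ φ.finrank s = Nat.card {x : Spec (CommRingCat.of Ω) ⟶ X // x ≫ φ = ξ} := by
  obtain ⟨Ω, _, _, ξ, hξ⟩ := exists_geomPoint s
  exact ⟨Ω, inferInstance, inferInstance, ξ, hξ, hξ ▸ (@natCard_fiberObj _ _ _ _ ξ (cover φ) ‹IsFinite φ› ‹Etale φ›).symm⟩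

theorem finrank_eq_natCard {X S : Scheme.{u}} (φ : X ⟶ S) [IsFinite φ] [Etale φ] {Ω : Type u} [Field Ω]
    [IsSepClosed Ω] (ξ : Spec (CommRingCat.of Ω) ⟶ S) :
    φ.finrank (ξ default) = Nat.card {x : Spec (CommRingCat.of Ω) ⟶ X // x ≫ φ = ξ} :=
  (@natCard_fiberObj _ _ _ _ ξ (cover φ) ‹IsFinite φ› ‹Etale φ›).symm

theorem finite_geomFibre {X S : Scheme.{u}} (φ : X ⟶ S) [IsFinite φ] [Etale φ] {Ω : Type u} [Field Ω]
    [IsSepClosed Ω] (ξ : Spec (CommRingCat.of Ω) ⟶ S) (hpos : 0 < φ.finrank (ξ default)) :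
    Finite {x : Spec (CommRingCat.of Ω) ⟶ X // x ≫ φ = ξ} := by
  rw [finrank_eq_natCard] at hpos
  exact (Nat.card_pos_iff.1 hpos).2

/-- A finite etale morphism bijective on geometric points is an isomorphism. -/
theorem isIso_of_existsUnique {X S : Scheme.{u}} (φ : X ⟶ S) [IsFinite φ] [Etale φ]
    (h : ∀ (Ω : Type u) [Field Ω] [IsAlgClosed Ω] (ξ : Spec (CommRingCat.of Ω) ⟶ S),
      ∃! x : Spec (CommRingCat.of Ω) ⟶ X, x ≫ φ = ξ) : IsIso φ := by
  rw [Scheme.Hom.isIso_iff_finrank_eq]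
  funext s
  obtain ⟨Ω, _, _, ξ, -, hc⟩ := exists_geomPoint_natCard φ s
  rw [hc, Pi.one_apply, Nat.card_eq_one_iff_unique]
  obtain ⟨x, hx, hu⟩ := h Ω ξ
  exact ⟨⟨fun a b => Subtype.ext ((hu _ a.2).trans (hu _ b.2).symm)⟩, ⟨⟨x, hx⟩⟩⟩

/-- A finite etale cover of constant degree `n` is split by one of degree `n!`, on geometric points. -/
theorem exists_splitting : ∀ (n : ℕ) {X S : Scheme.{u}} (φ : X ⟶ S) [IsFinite φ] [Etale φ],
    (∀ s, φ.finrank s = n) →
    ∃ (T : Scheme.{u}) (ψ : T ⟶ S), IsFinite ψ ∧ Etale ψ ∧ Surjective ψ ∧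
      (∀ s, ψ.finrank s = n.factorial) ∧
      ∃ e : Fin n → (T ⟶ X), (∀ i, e i ≫ φ = ψ) ∧
        ∀ (Ω : Type u) [Field Ω] [IsAlgClosed Ω] (t : Spec (CommRingCat.of Ω) ⟶ T)
          (x : Spec (CommRingCat.of Ω) ⟶ X), x ≫ φ = t ≫ ψ → ∃! i, t ≫ e i = x := by
  intro n
  induction n with
  | zero =>
    intro X S φ _ _ hn
    refine ⟨S, 𝟙 S, inferInstance, inferInstance, inferInstance, fun s => ?_, Fin.elim0,
      fun i => Fin.elim0 i, fun Ω _ _ t x _ => ?_⟩
    · rw [Scheme.Hom.finrank_eq_one_of_isIso]; rfl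
    · have := Scheme.Hom.one_le_finrank_map φ (x default)
      rw [hn] at this
      omega
  | succ n ih =>
    intro X S φ _ _ hn
    let q := pullback.snd φ φ
    let δ := pullback.diagonal φ
    haveI : IsOpenImmersion δ := inferInstance
    haveI : IsClosedImmersion δ := inferInstance
    let C : (pullback φ φ).Opens := ⟨(Set.range δ)ᶜ, δ.isClosedEmbedding.isClosed_range.isOpen_compl⟩
    haveI : IsClosedImmersion C.ι := .of_isPreimmersion _ (by
      rw [Scheme.Opens.range_ι]; exact δ.isOpenEmbedding.isOpen_range.isClosed_compl)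
    haveI : IsFinite q := MorphismProperty.pullback_snd (P := @IsFinite) φ φ inferInstance
    haveI : Etale q := MorphismProperty.pullback_snd (P := @Etale) φ φ inferInstance
    let c : (C : Scheme.{u}) ⟶ X := C.ι ≫ q
    haveI : IsFinite c := inferInstance
    haveI : Etale c := inferInstance
    -- geometric points of the pullback: the diagonal or `C`
    have hsplit : ∀ {Ω : Type u} [Field Ω] (z : Spec (CommRingCat.of Ω) ⟶ pullback φ φ),
        (∃ w, w ≫ δ = z) ∨ ∃ w : Spec (CommRingCat.of Ω) ⟶ (C : Scheme.{u}), w ≫ C.ι = z := by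
      intro Ω _ z
      by_cases hz : z default ∈ Set.range δ
      · refine Or.inl ⟨IsOpenImmersion.lift δ z ?_, IsOpenImmersion.lift_fac _ _ _⟩
        rintro _ ⟨t, rfl⟩
        rwa [Unique.eq_default t]
      · refine Or.inr ⟨IsOpenImmersion.lift C.ι z ?_, IsOpenImmersion.lift_fac _ _ _⟩
        rintro _ ⟨t, rfl⟩
        rw [Scheme.Opens.range_ι, Unique.eq_default t]
        exact hz
    have hne : ∀ {Ω : Type u} [Field Ω] (w : Spec (CommRingCat.of Ω) ⟶ (C : Scheme.{u}))
        (x : Spec (CommRingCat.of Ω) ⟶ X), w ≫ C.ι ≠ x ≫ δ := by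
      intro Ω _ w x h
      have h1 : C.ι (w default) = δ (x default) := by
        rw [← Scheme.Hom.comp_apply, h, Scheme.Hom.comp_apply]
      exact (show C.ι (w default) ∈ C from (w default).2) ⟨x default, h1.symm⟩
    have hδ : δ ≫ q = 𝟙 X := pullback.lift_snd _ _ _
    -- degree of `c`
    have hc : ∀ x, c.finrank x = n := by
      intro x
      obtain ⟨Ω, _, _, ξ, hξ, hcard⟩ := exists_geomPoint_natCard c x
      have hq : q.finrank x = n + 1 := by rw [Scheme.Hom.finrank_pullback_snd, hn]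
      rw [← hξ, finrank_eq_natCard] at hq
      haveI : Finite {z : Spec (CommRingCat.of Ω) ⟶ pullback φ φ // z ≫ q = ξ} :=
        (Nat.card_pos_iff.1 (hq ▸ Nat.succ_pos n)).2
      let g : {w : Spec (CommRingCat.of Ω) ⟶ (C : Scheme.{u}) // w ≫ c = ξ} →
          {z : Spec (CommRingCat.of Ω) ⟶ pullback φ φ // z ≫ q = ξ} :=
        fun w => ⟨w.1 ≫ C.ι, by rw [Category.assoc]; exact w.2⟩
      have hg : Function.Injective g := fun w w' h =>
        Subtype.ext ((cancel_mono C.ι).1 (congrArg Subtype.val h))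
      haveI : Finite {w : Spec (CommRingCat.of Ω) ⟶ (C : Scheme.{u}) // w ≫ c = ξ} := Finite.of_injective g hg
      let G : Option {w : Spec (CommRingCat.of Ω) ⟶ (C : Scheme.{u}) // w ≫ c = ξ} →
          {z : Spec (CommRingCat.of Ω) ⟶ pullback φ φ // z ≫ q = ξ} :=
        fun o => o.elim ⟨ξ ≫ δ, by rw [Category.assoc, hδ, Category.comp_id]⟩ g
      have hG : Function.Bijective G := by
        refine ⟨fun a b h => ?_, fun z => ?_⟩
        · rcases a with _ | a <;> rcases b with _ | b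
          · rfl
          · exact (hne b.1 ξ (congrArg Subtype.val h).symm).elim
          · exact (hne a.1 ξ (congrArg Subtype.val h)).elim
          · exact congrArg some (hg h)
        · rcases hsplit z.1 with ⟨w, hw⟩ | ⟨w, hw⟩
          · refine ⟨none, Subtype.ext ?_⟩
            change ξ ≫ δ = z.1
            rw [← hw, ← z.2, ← hw, Category.assoc w δ q, hδ, Category.comp_id]
          · exact ⟨some ⟨w, by rw [← z.2, ← hw, Category.assoc]⟩, Subtype.ext hw⟩
      rw [← Nat.card_congr (Equiv.ofBijective G hG), Finite.card_option, ← hcard] at hq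
      omega
    obtain ⟨T, ψ₁, hf₁, he₁, hs₁, hd₁, e₁, hw₁, huniq₁⟩ := ih c hc
    haveI : Surjective φ := (Scheme.Hom.one_le_finrank_iff_surjective φ).1 fun s => by
      show 1 ≤ φ.finrank s; rw [hn]; omega
    let e : Fin (n + 1) → (T ⟶ X) := Fin.cases ψ₁ fun i => e₁ i ≫ C.ι ≫ pullback.fst φ φ
    refine ⟨T, ψ₁ ≫ φ, inferInstance, inferInstance, inferInstance, fun s => ?_, e, fun i => ?_,
      fun Ω _ _ t x hx => ?_⟩
    · obtain ⟨Ω, _, _, ξ, hξ, hcard⟩ := exists_geomPoint_natCard (ψ₁ ≫ φ) s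
      rw [hcard]
      haveI := finite_geomFibre φ ξ (by rw [hn]; omega)
      haveI : ∀ x : {x : Spec (CommRingCat.of Ω) ⟶ X // x ≫ φ = ξ},
          Finite {z : Spec (CommRingCat.of Ω) ⟶ T // z ≫ ψ₁ = x.1} := fun x =>
        finite_geomFibre ψ₁ x.1 (by rw [hd₁]; exact n.factorial_pos)
      let E : {z : Spec (CommRingCat.of Ω) ⟶ T // z ≫ ψ₁ ≫ φ = ξ} ≃
          Σ x : {x : Spec (CommRingCat.of Ω) ⟶ X // x ≫ φ = ξ},
            {z : Spec (CommRingCat.of Ω) ⟶ T // z ≫ ψ₁ = x.1} :=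
        { toFun := fun z => ⟨⟨z.1 ≫ ψ₁, by rw [Category.assoc]; exact z.2⟩, z.1, rfl⟩
          invFun := fun p => ⟨p.2.1, by rw [← Category.assoc, p.2.2, p.1.2]⟩
          left_inv := fun _ => rfl
          right_inv := by
            rintro ⟨⟨x, hx⟩, ⟨z, hz⟩⟩
            change z ≫ ψ₁ = x at hz
            subst hz
            rfl }
      letI := Fintype.ofFinite {x : Spec (CommRingCat.of Ω) ⟶ X // x ≫ φ = ξ}
      rw [Nat.card_congr E, Nat.card_sigma]
      rw [Finset.sum_congr rfl (g := fun _ => n.factorial) fun x _ => by rw [← finrank_eq_natCard, hd₁],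
        Finset.sum_const, Finset.card_univ, ← Nat.card_eq_fintype_card, ← finrank_eq_natCard, hn,
        smul_eq_mul, Nat.factorial_succ]
    · induction i using Fin.cases with
      | zero => rfl
      | succ i =>
        simp only [e, Fin.cases_succ, Category.assoc, pullback.condition]
        rw [← hw₁ i, Category.assoc]
        simp [c, q]
    · let z : Spec (CommRingCat.of Ω) ⟶ pullback φ φ := pullback.lift x (t ≫ ψ₁) (by rw [hx, Category.assoc])
      have hzq : z ≫ q = t ≫ ψ₁ := pullback.lift_snd _ _ _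
      have hz1 : z ≫ pullback.fst φ φ = x := pullback.lift_fst _ _ _
      have he0 : ∀ i, t ≫ e i = x → (i = 0 → z = (t ≫ ψ₁) ≫ δ) ∧
          ∀ j, i = Fin.succ j → z = (t ≫ e₁ j) ≫ C.ι := by
        intro i hi
        refine ⟨fun h => ?_, fun j h => ?_⟩ <;> subst h <;> apply pullback.hom_ext
        · rw [hz1, ← hi, Category.assoc _ δ, pullback.diagonal_fst, Category.comp_id]; rfl
        · rw [Category.assoc _ δ]; exact hzq.trans (by rw [hδ, Category.comp_id])
        · rw [hz1, ← hi]; simp [e]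
        · exact hzq.trans (by rw [← hw₁ j]; simp [c, q])
      rcases hsplit z with ⟨w, hw⟩ | ⟨w, hw⟩
      · have hwx : w = x := by rw [← hz1, ← hw, Category.assoc, pullback.diagonal_fst, Category.comp_id]
        have hwt : w = t ≫ ψ₁ := by rw [← hzq, ← hw, Category.assoc, hδ, Category.comp_id]
        refine ⟨0, show t ≫ ψ₁ = x from hwt.symm.trans hwx, fun i hi => ?_⟩
        rcases Fin.eq_zero_or_eq_succ i with h | ⟨j, h⟩
        · exact h
        · exact (hne (t ≫ e₁ j) w (by rw [hw, ← (he0 i hi).2 j h])).elim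
      · obtain ⟨i, hi, hu⟩ := huniq₁ Ω t w (by rw [← hzq, ← hw, Category.assoc])
        refine ⟨i.succ, ?_, fun k hk => ?_⟩
        · change t ≫ e i.succ = x
          rw [← hz1, ← hw, ← hi]
          simp [e]
        · rcases Fin.eq_zero_or_eq_succ k with h | ⟨j, h⟩
          · exact (hne w (t ≫ ψ₁) (by rw [hw, ← (he0 k hk).1 h])).elim
          · rw [h, hu j ((cancel_mono C.ι).1 (((he0 k hk).2 j h).symm.trans hw.symm))]

/-- Sections which are bijective on geometric points trivialise a base change. -/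
theorem isIso_sigmaDesc_lift {X S T : Scheme.{u}} (φ : X ⟶ S) [IsFinite φ] [Etale φ] (ψ : T ⟶ S)
    {ι : Type u} [Finite ι] (e : ι → (T ⟶ X)) (he : ∀ i, e i ≫ φ = ψ)
    (hu : ∀ (Ω : Type u) [Field Ω] [IsAlgClosed Ω] (t : Spec (CommRingCat.of Ω) ⟶ T)
      (x : Spec (CommRingCat.of Ω) ⟶ X), x ≫ φ = t ≫ ψ → ∃! i, t ≫ e i = x) :
    IsIso (Sigma.desc fun i => pullback.lift (f := φ) (g := ψ) (e i) (𝟙 T) ((he i).trans (Category.id_comp ψ).symm)) := by
  set h := Sigma.desc fun i => pullback.lift (f := φ) (g := ψ) (e i) (𝟙 T) ((he i).trans (Category.id_comp ψ).symm)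
    with hh
  have hsnd : h ≫ pullback.snd φ ψ = Sigma.desc fun _ : ι => 𝟙 T := by ext i; simp [hh]
  haveI : IsFinite (h ≫ pullback.snd φ ψ) := hsnd ▸ Pi1Quot.isFinite_sigmaDesc _
  haveI : Etale (h ≫ pullback.snd φ ψ) := by
    rw [hsnd, IsZariskiLocalAtSource.iff_of_openCover (P := @Etale) (sigmaOpenCover fun _ : ι => T)]
    intro i
    change Etale (Sigma.ι (fun _ : ι => T) i ≫ Sigma.desc fun _ : ι => 𝟙 T)
    rw [Sigma.ι_desc]; infer_instance
  haveI : IsFinite h := IsFinite.of_comp h (pullback.snd φ ψ)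
  haveI : Etale h := Etale.of_comp h (pullback.snd φ ψ)
  refine isIso_of_existsUnique h fun Ω _ _ η => ?_
  obtain ⟨i, hi, hiu⟩ := hu Ω (η ≫ pullback.snd φ ψ) (η ≫ pullback.fst φ ψ)
    (by rw [Category.assoc, Category.assoc, pullback.condition])
  refine ⟨(η ≫ pullback.snd φ ψ) ≫ Sigma.ι (fun _ : ι => T) i, ?_, fun q hq => ?_⟩
  · apply pullback.hom_ext
    · simpa [hh] using hi
    · simp [hh]
  · obtain ⟨j, y, hy⟩ := (sigmaOpenCover fun _ : ι => T).exists_eq (q default)
    let q' := IsOpenImmersion.lift (Sigma.ι (fun _ : ι => T) j) q (by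
      rintro _ ⟨z, rfl⟩; rw [Unique.eq_default z]; exact ⟨y, hy⟩)
    have hq' : q' ≫ Sigma.ι (fun _ : ι => T) j = q := IsOpenImmersion.lift_fac _ _ _
    have ht : q' = η ≫ pullback.snd φ ψ := by
      rw [← hq, ← hq', Category.assoc, Category.assoc, hsnd, Sigma.ι_desc, Category.comp_id]
    have hj : j = i := hiu j (by
      rw [← hq, ← hq']
      simp [hh])
    rw [← hq', ht, hj]

end Groth.Pi1FEt
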