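import Groth.Agent.Pi1Etale.FEtFaithful
import Mathlib.AlgebraicGeometry.Morphisms.FlatRank

/-!
# Restriction is fully faithful as soon as it is bijective on clopen subsets of covers
-/

universe u

set_option autoImplicit false
set_option backward.isDefEq.respectTransparency false

open CategoryTheory CategoryTheory.Limits AlgebraicGeometry TopologicalSpace

namespace Groth.Pi1FEt

variable {X Y : Scheme.{u}}

theorem restrict_full_of_clopen (f : X ⟶ Y)
    (hinj : ∀ (A : FEt.Cat Y) (C : Set ↥A.left), IsClopen C →
      Set.range (pullback.fst A.hom f).base ⊆ C → C = Set.univ)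
    (hsurj : ∀ (A : FEt.Cat Y) (C₀ : Set ↥(pullback A.hom f)), IsClopen C₀ →
      ∃ C : Set ↥A.left, IsClopen C ∧ (pullback.fst A.hom f).base ⁻¹' C = C₀) :
    (FEt.restrict f).Full where
  map_surjective {A B} φ := by
    have : IsFinite A.hom := A.prop.1
    have : Etale A.hom := A.prop.2
    have : IsFinite B.hom := B.prop.1
    have : Etale B.hom := B.prop.2
    let W : FEt.Cat Y := MorphismProperty.Over.mk ⊤ (pullback.fst A.hom B.hom ≫ A.hom)
      ⟨inferInstance, inferInstance⟩
    let W₀ := pullback W.hom f
    let wA : W₀ ⟶ pullback A.hom f := pullback.lift (pullback.fst W.hom f ≫ pullback.fst A.hom B.hom)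
      (pullback.snd W.hom f) (by rw [Category.assoc]; exact pullback.condition)
    have hw₁ : wA ≫ pullback.fst A.hom f = pullback.fst W.hom f ≫ pullback.fst A.hom B.hom := pullback.lift_fst _ _ _
    have sq : IsPullback wA (pullback.fst W.hom f) (pullback.fst A.hom f) (pullback.fst A.hom B.hom) := by
      refine (IsPullback.of_bot ?_ hw₁.symm (IsPullback.of_hasPullback A.hom f)).flip
      rw [pullback.lift_snd]
      exact IsPullback.of_hasPullback W.hom f
    haveI : IsFinite wA := MorphismProperty.of_isPullback sq.flip (inferInstance : IsFinite (pullback.fst A.hom B.hom))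
    haveI : Etale wA := MorphismProperty.of_isPullback sq.flip (inferInstance : Etale (pullback.fst A.hom B.hom))
    let φ₀ : pullback A.hom f ⟶ pullback B.hom f := φ.left
    have hφ : φ₀ ≫ pullback.snd B.hom f = pullback.snd A.hom f := MorphismProperty.Over.w φ
    let t : pullback A.hom f ⟶ W₀ := pullback.lift
      (pullback.lift (pullback.fst A.hom f) (φ₀ ≫ pullback.fst B.hom f)
        (by rw [Category.assoc, pullback.condition, pullback.condition, reassoc_of% hφ]))
      (pullback.snd A.hom f)
      (by simp only [W, MorphismProperty.Over.mk_hom]; rw [pullback.lift_fst_assoc]; exact pullback.condition)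
    have ht : t ≫ wA = 𝟙 _ := by
      apply pullback.hom_ext
      · simp only [t, wA, Category.assoc, pullback.lift_fst, pullback.lift_fst_assoc, Category.id_comp]
      · simp only [t, wA, Category.assoc, pullback.lift_snd, Category.id_comp]
    haveI : IsFinite (t ≫ wA) := by rw [ht]; infer_instance
    haveI : Etale (t ≫ wA) := by rw [ht]; infer_instance
    haveI : IsFinite t := IsFinite.of_comp t wA
    haveI : Etale t := Etale.of_comp t wA
    haveI : Mono (t ≫ wA) := by rw [ht]; infer_instance
    haveI : Mono t := mono_of_mono t wA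
    haveI : IsOpenImmersion t := IsOpenImmersion.of_flat_of_mono t
    obtain ⟨C, hC, hC₀⟩ := hsurj W (Set.range t) ⟨t.isClosedMap.isClosed_range, t.isOpenMap.isOpen_range⟩
    let Γ : (pullback A.hom B.hom).Opens := ⟨C, hC.2⟩
    haveI : IsClosedImmersion Γ.ι := IsClosedImmersion.of_isPreimmersion _
      (by rw [Scheme.Opens.range_ι]; exact hC.1)
    let r := Γ.ι ≫ pullback.fst A.hom B.hom
    let t' : pullback A.hom f ⟶ Γ.toScheme := IsOpenImmersion.lift Γ.ι (t ≫ pullback.fst W.hom f) (by
      rw [Scheme.Opens.range_ι]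
      rintro _ ⟨a, rfl⟩
      have ha : t a ∈ (pullback.fst W.hom f).base ⁻¹' C := hC₀.symm ▸ ⟨a, rfl⟩
      exact ha)
    have ht' : t' ≫ Γ.ι = t ≫ pullback.fst W.hom f := IsOpenImmersion.lift_fac _ _ _
    have sqt : IsPullback t' t Γ.ι (pullback.fst W.hom f) :=
      IsOpenImmersion.isPullback _ _ _ _ ht'.symm (by
        apply Opens.ext
        rw [Scheme.Opens.opensRange_ι]
        exact hC₀)
    have sqr : IsPullback t' (𝟙 _) r (pullback.fst A.hom f) := by
      have := sqt.paste_vert sq.flip
      rwa [ht] at this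
    have hdeg : ∀ a, r.finrank a = 1 := by
      have hloc : IsClopen {a | r.finrank a = 1} :=
        ((Scheme.Hom.isLocallyConstant_finrank r).isClopen_fiber 1)
      intro a
      have := hinj A _ hloc (by
        rintro _ ⟨a₀, rfl⟩
        change r.finrank _ = 1
        rw [← Scheme.Hom.finrank_of_isPullback _ _ _ _ sqr a₀]
        exact congrFun ((Scheme.Hom.isIso_iff_finrank_eq _).1 inferInstance) a₀)
      exact Set.eq_univ_iff_forall.1 this a
    haveI : IsIso r := (Scheme.Hom.isIso_iff_finrank_eq r).2 (funext hdeg)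
    let u : A.left ⟶ B.left := inv r ≫ Γ.ι ≫ pullback.snd A.hom B.hom
    have hu : u ≫ B.hom = A.hom := by
      simp only [u, Category.assoc, ← pullback.condition, IsIso.inv_comp_eq, r]
    refine ⟨MorphismProperty.Over.homMk u hu, MorphismProperty.Over.Hom.ext ?_⟩
    have key : pullback.fst A.hom f ≫ u = φ₀ ≫ pullback.fst B.hom f := by
      have h1 : pullback.fst A.hom f = t' ≫ r := ((Category.id_comp _).symm.trans sqr.w.symm)
      calc pullback.fst A.hom f ≫ u = (t' ≫ r) ≫ u := congrArg (· ≫ u) h1
        _ = t' ≫ Γ.ι ≫ pullback.snd A.hom B.hom := by simp only [u, Category.assoc, IsIso.hom_inv_id_assoc]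
        _ = t ≫ pullback.fst W.hom f ≫ pullback.snd A.hom B.hom := by rw [reassoc_of% ht']
        _ = φ₀ ≫ pullback.fst B.hom f := by simp only [t, pullback.lift_fst_assoc, pullback.lift_snd]
    refine pullback.hom_ext ?_ ?_
    · exact (pullback.lift_fst _ _ _).trans key
    · exact (pullback.lift_snd _ _ _).trans hφ.symm

/-- Surjectivity on clopens from surjectivity on connected components, when components are open. -/
theorem exists_clopen_of_components {A A₀ : Type u} [TopologicalSpace A] [TopologicalSpace A₀]
    [LocallyConnectedSpace A] {j : A₀ → A} (hj : Continuous j)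
    (h : Function.Injective hj.connectedComponentsMap) {C₀ : Set A₀} (hC₀ : IsClopen C₀) :
    ∃ C : Set A, IsClopen C ∧ j ⁻¹' C = C₀ := by
  let C : Set A := {a | ∃ c ∈ C₀, connectedComponent (j c) = connectedComponent a}
  refine ⟨C, ⟨⟨?_⟩, ?_⟩, ?_⟩
  · refine isOpen_iff_forall_mem_open.2 fun a ha => ⟨connectedComponent a, fun b hb => ?_,
      isOpen_connectedComponent, mem_connectedComponent⟩
    exact fun ⟨c, hc, e⟩ => ha ⟨c, hc, e.trans (connectedComponent_eq hb).symm⟩
  · refine isOpen_iff_forall_mem_open.2 fun a ⟨c, hc, e⟩ => ⟨connectedComponent a, fun b hb => ?_,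
      isOpen_connectedComponent, mem_connectedComponent⟩
    exact ⟨c, hc, e.trans (connectedComponent_eq hb)⟩
  · ext x
    refine ⟨fun ⟨c, hc, e⟩ => ?_, fun hx => ⟨x, hx, rfl⟩⟩
    have := h (a₁ := ConnectedComponents.mk c) (a₂ := ConnectedComponents.mk x)
      (ConnectedComponents.coe_eq_coe.2 e)
    exact hC₀.connectedComponent_subset hc
      (by rw [ConnectedComponents.coe_eq_coe.1 this]; exact mem_connectedComponent)

theorem eq_univ_of_components {A A₀ : Type u} [TopologicalSpace A] [TopologicalSpace A₀]
    {j : A₀ → A} (hj : Continuous j) (h : Function.Surjective hj.connectedComponentsMap)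
    {C : Set A} (hC : IsClopen C) (hsub : Set.range j ⊆ C) : C = Set.univ :=
  Set.eq_univ_iff_forall.2 fun a => by
    obtain ⟨c, hc⟩ := h (ConnectedComponents.mk a)
    obtain ⟨x, rfl⟩ := ConnectedComponents.surjective_coe c
    exact hC.connectedComponent_subset (hsub ⟨x, rfl⟩)
      (ConnectedComponents.coe_eq_coe.1 hc ▸ mem_connectedComponent)

end Groth.Pi1FEt
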