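import Groth.Prelude.Def_FEt
import Groth.Agent.EtaleBase.Rigidity

/-!
# Base change of finite étale covers along universal homeomorphisms
-/

universe u

set_option autoImplicit false
set_option backward.isDefEq.respectTransparency false
set_option backward.defeqAttrib.useBackward true

open CategoryTheory Limits AlgebraicGeometry

namespace Groth.Pi1FEt

variable {X Y : Scheme.{u}} (f : X ⟶ Y) [UniversallyInjective f] [UniversallyClosed f] [Surjective f]

theorem restrict_map_bijective_of_univHomeo (A B : FEt.Cat Y) :
    Function.Bijective (fun φ : A ⟶ B => (FEt.restrict f).map φ) := by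
  have : Etale B.hom := B.prop.2
  have h := Groth.EtaleBase.pullback_hom_bijective f B.toComma A.toComma
  constructor
  · intro φ ψ hφψ
    refine MorphismProperty.Over.Hom.ext ?_
    have h1 : φ.hom = ψ.hom := h.1 (Over.OverMorphism.ext
      (congrArg (fun α => (α : (FEt.restrict f).obj A ⟶ (FEt.restrict f).obj B).left) hφψ))
    exact congrArg (fun α => α.left) h1
  · intro ψ
    obtain ⟨φ, hφ⟩ := h.2 ψ.hom
    refine ⟨MorphismProperty.Over.homMk φ.left (Over.w φ), MorphismProperty.Over.Hom.ext ?_⟩
    exact congrArg (fun α => α.left) hφ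

theorem restrict_full_faithful_of_univHomeo :
    (FEt.restrict f).Full ∧ (FEt.restrict f).Faithful :=
  ⟨⟨fun {A B} φ => (restrict_map_bijective_of_univHomeo f A B).2 φ⟩,
    ⟨fun {A B} => (restrict_map_bijective_of_univHomeo f A B).1⟩⟩

end Groth.Pi1FEt
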