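import Groth.Agent.Pi1FEt.EqualizerAlg
import Mathlib.RingTheory.Etale.Finite
import Mathlib.RingTheory.Etale.Pi
import Mathlib.RingTheory.TensorProduct.Pi
import Mathlib.CategoryTheory.Limits.Constructions.LimitsOfProductsAndEqualizers

/-!
# Finite limits in the category of finite étale algebras, preserved by base change
-/

universe u

open CategoryTheory Limits TensorProduct CommAlgCat

namespace Groth.Pi1FEt

variable {R : Type u} [CommRing R]

section fork

variable {A B : FiniteEtale.{u} R} {f g : A ⟶ B}

/-- The map of a fork to the equalizer of rings. -/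
noncomputable def forkToEqualizer (c : Fork f g) :
    c.pt.obj →ₐ[R] AlgHom.equalizer f.hom.hom g.hom.hom :=
  c.ι.hom.hom.codRestrict _ fun z => (AlgHom.mem_equalizer f.hom.hom g.hom.hom _).mpr
    (congrArg (fun φ : c.pt ⟶ B => φ.hom.hom z) c.condition)

/-- A fork of finite étale algebras which is an equalizer of rings is a limit. -/
noncomputable def forkIsLimit (c : Fork f g) (hinj : Function.Injective c.ι.hom.hom)
    (hsurj : ∀ a : A.obj, f.hom.hom a = g.hom.hom a → ∃ x, c.ι.hom.hom x = a) : IsLimit c :=
  have hbij : Function.Bijective (forkToEqualizer c) :=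
    ⟨fun _ _ h => hinj (congrArg Subtype.val h), fun y => by
      obtain ⟨x, hx⟩ := hsurj y.1 ((AlgHom.mem_equalizer f.hom.hom g.hom.hom y.1).mp y.2)
      exact ⟨x, Subtype.ext hx⟩⟩
  Fork.IsLimit.mk c
    (fun s => ObjectProperty.homMk (CommAlgCat.ofHom
      ((AlgEquiv.ofBijective _ hbij).symm.toAlgHom.comp (forkToEqualizer s))))
    (fun s => by
      apply ObjectProperty.hom_ext
      apply CommAlgCat.hom_ext
      refine AlgHom.ext fun z => ?_
      exact congrArg Subtype.val ((AlgEquiv.ofBijective _ hbij).apply_symm_apply (forkToEqualizer s z)))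
    (fun s m hm => by
      apply ObjectProperty.hom_ext
      apply CommAlgCat.hom_ext
      refine AlgHom.ext fun z => ((AlgEquiv.ofBijective _ hbij).eq_symm_apply).mpr (Subtype.ext ?_)
      exact congrArg (fun φ : s.pt ⟶ A => φ.hom.hom z) hm)

/-- The equalizer fork. -/
noncomputable def equalizerFork (f g : A ⟶ B) : Fork f g :=
  Fork.ofι (P := FiniteEtale.of R (AlgHom.equalizer f.hom.hom g.hom.hom))
    (ObjectProperty.homMk (CommAlgCat.ofHom (AlgHom.equalizer f.hom.hom g.hom.hom).val))
    (by
      apply ObjectProperty.hom_ext
      apply CommAlgCat.hom_ext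
      exact AlgHom.ext fun z => (AlgHom.mem_equalizer f.hom.hom g.hom.hom _).mp z.2)

/-- The equalizer fork is a limit. -/
noncomputable def equalizerForkIsLimit (f g : A ⟶ B) : IsLimit (equalizerFork f g) :=
  forkIsLimit _ Subtype.val_injective fun a ha =>
    ⟨⟨a, (AlgHom.mem_equalizer f.hom.hom g.hom.hom a).mpr ha⟩, rfl⟩

end fork

instance : HasEqualizers (FiniteEtale.{u} R) :=
  have : ∀ {A B : FiniteEtale.{u} R} {f g : A ⟶ B}, HasLimit (parallelPair f g) :=
    ⟨⟨⟨_, equalizerForkIsLimit _ _⟩⟩⟩
  hasEqualizers_of_hasLimit_parallelPair _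

section fan

variable {ι : Type} [Finite ι] {F : ι → FiniteEtale.{u} R}

/-- A fan of finite étale algebras which is a product of rings is a limit. -/
noncomputable def fanIsLimit (c : Fan F)
    (hbij : Function.Bijective (AlgHom.pi fun j => (c.proj j).hom.hom)) : IsLimit c :=
  Fan.IsLimit.mk c
    (fun s => ObjectProperty.homMk (CommAlgCat.ofHom
      ((AlgEquiv.ofBijective _ hbij).symm.toAlgHom.comp (AlgHom.pi fun j => (s.proj j).hom.hom))))
    (fun s j => by
      apply ObjectProperty.hom_ext
      apply CommAlgCat.hom_ext
      refine AlgHom.ext fun z => ?_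
      exact congrFun ((AlgEquiv.ofBijective _ hbij).apply_symm_apply
        (AlgHom.pi (fun j => (s.proj j).hom.hom) z)) j)
    (fun s m hm => by
      apply ObjectProperty.hom_ext
      apply CommAlgCat.hom_ext
      refine AlgHom.ext fun z => ((AlgEquiv.ofBijective _ hbij).eq_symm_apply).mpr ?_
      ext j
      exact congrArg (fun φ : s.pt ⟶ F j => φ.hom.hom z) (hm j))

/-- The product fan. -/
noncomputable def piFan (F : ι → FiniteEtale.{u} R) : Fan F :=
  Fan.mk (FiniteEtale.of R (∀ j, (F j).obj)) fun j =>
    ObjectProperty.homMk (CommAlgCat.ofHom (Pi.evalAlgHom R (fun j => ((F j).obj : Type u)) j))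

/-- The product fan is a limit. -/
noncomputable def piFanIsLimit (F : ι → FiniteEtale.{u} R) : IsLimit (piFan F) :=
  fanIsLimit _ ⟨fun _ _ h => h, fun y => ⟨y, rfl⟩⟩

end fan

instance : HasFiniteProducts (FiniteEtale.{u} R) where
  out _ :=
    { has_limit := fun K =>
        have : HasLimit (Discrete.functor (K.obj ∘ Discrete.mk)) :=
          ⟨⟨⟨_, piFanIsLimit fun j => K.obj ⟨j⟩⟩⟩⟩
        hasLimit_of_iso (Discrete.natIsoFunctor (F := K)).symm }

instance : HasFiniteLimits (FiniteEtale.{u} R) :=
  hasFiniteLimits_of_hasEqualizers_and_finite_products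

variable (S : Type u) [CommRing S] [Algebra R S]

instance : PreservesLimitsOfShape WalkingParallelPair (FiniteEtale.baseChange.{u, u} R S) where
  preservesLimit {K} :=
    have : PreservesLimit (parallelPair (K.map WalkingParallelPairHom.left)
        (K.map WalkingParallelPairHom.right)) (FiniteEtale.baseChange.{u, u} R S) :=
      preservesLimit_of_preserves_limit_cone (equalizerForkIsLimit _ _) <|
        (isLimitMapConeForkEquiv _ _).symm <| forkIsLimit _
          (fun a b h => (equalizerComparison_bijective _ _ S).1 (Subtype.ext h))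
          (fun a ha => by
            obtain ⟨x, hx⟩ := (equalizerComparison_bijective
              (K.map WalkingParallelPairHom.left).hom.hom (K.map WalkingParallelPairHom.right).hom.hom S).2
              ⟨a, (AlgHom.mem_equalizer _ _ _).mpr ha⟩
            exact ⟨x, congrArg Subtype.val hx⟩)
    preservesLimit_of_iso_diagram _ (diagramIsoParallelPair K).symm

instance : PreservesFiniteProducts (FiniteEtale.baseChange.{u, u} R S) where
  preserves n :=
    { preservesLimit := fun {K} => by
        have : PreservesLimit (Discrete.functor (K.obj ∘ Discrete.mk)) (FiniteEtale.baseChange.{u, u} R S) := by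
          refine preservesLimit_of_preserves_limit_cone (piFanIsLimit fun j => K.obj ⟨j⟩) ?_
          refine (isLimitMapConeFanMkEquiv _ _ _).symm (fanIsLimit _ ?_)
          refine (iff_of_eq (congrArg Function.Bijective (funext fun z => ?_))).mpr
            (Algebra.TensorProduct.piRight R S S (fun j : Fin n => (K.obj ⟨j⟩).obj)).bijective
          induction z using TensorProduct.induction_on with
          | zero => exact (map_zero _).trans (map_zero _).symm
          | tmul t x => ext j; rfl
          | add x y hx hy => exact (map_add _ _ _).trans ((congrArg₂ (· + ·) hx hy).trans (map_add _ _ _).symm)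
        exact preservesLimit_of_iso_diagram _ (Discrete.natIsoFunctor (F := K)).symm }

instance : PreservesFiniteLimits (FiniteEtale.baseChange.{u, u} R S) :=
  preservesFiniteLimits_of_preservesEqualizers_and_finiteProducts _

end Groth.Pi1FEt
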