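import Mathlib.RingTheory.TotallySplit
import Mathlib.RingTheory.Finiteness.ModuleFinitePresentation
import Mathlib.RingTheory.Flat.Localization
import Mathlib.RingTheory.Localization.BaseChange
import Mathlib.LinearAlgebra.Matrix.ToLin
import Mathlib.LinearAlgebra.FreeModule.PID
import Mathlib.RingTheory.LocalRing.RingHom.Basic
import Mathlib.LinearAlgebra.TensorProduct.RightExactness
import Mathlib.RingTheory.Flat.TorsionFree

/-!
# The difference of two maps of finite étale algebras has flat cokernel
-/

universe u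

open TensorProduct

namespace Groth.Pi1FEt

section split

variable {m n : ℕ} (R : Type u) [CommRing R] (σ τ : Fin m → Fin n)

/-- The matrix of `f ↦ f ∘ σ - f ∘ τ`. -/
def diffMatrix : Matrix (Fin m) (Fin n) R :=
  fun j i => (if σ j = i then 1 else 0) - (if τ j = i then 1 else 0)

theorem diffMatrix_mulVecLin (f : Fin n → R) :
    (diffMatrix R σ τ).mulVecLin f = f ∘ σ - f ∘ τ := by
  ext j
  simp [diffMatrix, Matrix.mulVec, dotProduct, sub_mul, ite_mul]

/-- Over the integers the matrix has a generalized inverse. -/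
theorem exists_generalized_inverse_int :
    ∃ s : Matrix (Fin n) (Fin m) ℤ,
      diffMatrix ℤ σ τ * s * diffMatrix ℤ σ τ = diffMatrix ℤ σ τ := by
  classical
  let D := (diffMatrix ℤ σ τ).mulVecLin
  let Q := (Fin m → ℤ) ⧸ LinearMap.range D
  -- the cokernel is torsion free
  have htf : ∀ (k : ℤ) (g : Fin m → ℤ), k ≠ 0 → k • g ∈ LinearMap.range D → g ∈ LinearMap.range D := by
    rintro k g hk ⟨f, hf⟩
    rw [diffMatrix_mulVecLin] at hf
    let r : Fin n → Fin n → Prop := fun a b => ∃ j, σ j = a ∧ τ j = b
    let c : Fin n → ℤ := fun a => f (Quot.mk r a).out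
    have hdvd : ∀ a, k ∣ f a - c a := by
      intro a
      have hab : ∀ a b, Relation.EqvGen r a b → k ∣ f a - f b := by
        intro a b h
        induction h with
        | rel a b h =>
          obtain ⟨j, rfl, rfl⟩ := h
          exact ⟨g j, by simpa using congrFun hf j⟩
        | refl a => simp
        | symm a b _ ih => rw [← dvd_neg, neg_sub]; exact ih
        | trans a b c _ _ ih1 ih2 => simpa using dvd_add ih1 ih2
      exact hab a _ (Quot.eqvGen_exact (Quot.out_eq (Quot.mk r a)).symm)
    choose f' hf' using hdvd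
    refine ⟨f', ?_⟩
    rw [diffMatrix_mulVecLin]
    ext j
    have hc : c (σ j) = c (τ j) := by
      simp only [c, Quot.sound (r := r) ⟨j, rfl, rfl⟩]
    have := congrFun hf j
    simp only [Pi.sub_apply, Function.comp_apply, Pi.smul_apply, smul_eq_mul] at this ⊢
    refine mul_left_cancel₀ hk ?_
    rw [mul_sub, ← hf' (σ j), ← hf' (τ j)]
    linarith
  have : Module.IsTorsionFree ℤ Q := by
    refine ⟨fun k hk => ?_⟩
    intro a b hab
    obtain ⟨a, rfl⟩ := Submodule.mkQ_surjective _ a
    obtain ⟨b, rfl⟩ := Submodule.mkQ_surjective _ b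
    have h1 : k • (a - b) ∈ LinearMap.range D := by
      rw [← Submodule.Quotient.mk_eq_zero, Submodule.Quotient.mk_smul, Submodule.Quotient.mk_sub,
        smul_sub, sub_eq_zero]
      exact hab
    exact (Submodule.Quotient.eq _).mpr (htf k _ hk.ne_zero h1)
  have : Module.Free ℤ Q := inferInstance
  obtain ⟨q, hq⟩ := Module.projective_lifting_property (LinearMap.range D).mkQ LinearMap.id
    (Submodule.mkQ_surjective _)
  let e : (Fin m → ℤ) →ₗ[ℤ] LinearMap.range D :=
    (LinearMap.id - q.comp (LinearMap.range D).mkQ).codRestrict _ fun x => by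
      rw [← Submodule.Quotient.mk_eq_zero]
      have := LinearMap.congr_fun hq ((LinearMap.range D).mkQ x)
      simp only [LinearMap.comp_apply, LinearMap.id_apply, Submodule.mkQ_apply] at this
      simp [this]
  obtain ⟨s, hs⟩ := Module.projective_lifting_property D.rangeRestrict e D.surjective_rangeRestrict
  refine ⟨LinearMap.toMatrix' s, ?_⟩
  apply Matrix.toLin'.injective
  refine LinearMap.ext fun f => ?_
  have h1 := congrArg Subtype.val (LinearMap.congr_fun hs (D f))
  simp only [e, LinearMap.comp_apply, LinearMap.codRestrict_apply,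
    LinearMap.sub_apply, LinearMap.id_apply] at h1
  simp only [Matrix.toLin'_mul, Matrix.toLin'_toMatrix', LinearMap.comp_apply]
  change D (s (D f)) = D f
  have h0 : (LinearMap.range D).mkQ (D f) = 0 := (Submodule.Quotient.mk_eq_zero _).mpr ⟨f, rfl⟩
  rw [h1, h0, map_zero, sub_zero]

theorem flat_coker_split :
    Module.Flat R ((Fin m → R) ⧸ LinearMap.range (diffMatrix R σ τ).mulVecLin) := by
  obtain ⟨s, hs⟩ := exists_generalized_inverse_int σ τ
  have hD : (diffMatrix ℤ σ τ).map (Int.castRingHom R) = diffMatrix R σ τ := by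
    ext j i
    simp only [Matrix.map_apply, diffMatrix]
    split_ifs <;> simp
  have hR : diffMatrix R σ τ * s.map (Int.castRingHom R) * diffMatrix R σ τ = diffMatrix R σ τ := by
    rw [← hD, ← Matrix.map_mul, ← Matrix.map_mul, hs]
  let D := (diffMatrix R σ τ).mulVecLin
  let P := LinearMap.id - D.comp (s.map (Int.castRingHom R)).mulVecLin
  have hP : LinearMap.range D ≤ LinearMap.ker P := by
    rintro _ ⟨f, rfl⟩
    simp only [LinearMap.mem_ker, P, D, LinearMap.sub_apply, LinearMap.id_apply, LinearMap.comp_apply,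
      Matrix.mulVecLin_apply, Matrix.mulVec_mulVec, sub_eq_zero]
    rw [← Matrix.mul_assoc, hR]
  have : Module.Projective R ((Fin m → R) ⧸ LinearMap.range D) := by
    refine Module.Projective.of_split ((LinearMap.range D).liftQ P hP) (LinearMap.range D).mkQ ?_
    refine Submodule.linearMap_qext _ (LinearMap.ext fun x => ?_)
    simp [P]
  infer_instance

end split

/-- Over a local ring a map of split algebras is given by a map of index sets. -/
theorem exists_eq_comp_of_isLocalRing {T : Type u} [CommRing T] [IsLocalRing T] {m n : ℕ}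
    (u : (Fin n → T) →ₐ[T] (Fin m → T)) : ∃ σ : Fin m → Fin n, ∀ f, u f = f ∘ σ := by
  classical
  have key : ∀ j, ∃ i, ∀ i', u (Pi.single i' 1) j = if i' = i then 1 else 0 := by
    intro j
    have h01 : ∀ i, u (Pi.single i 1) j = 0 ∨ u (Pi.single i 1) j = 1 := fun i => by
      have he : IsIdempotentElem (u (Pi.single i 1) j) := by
        change u (Pi.single i 1) j * u (Pi.single i 1) j = _
        rw [← Pi.mul_apply, ← map_mul, ← Pi.single_mul, one_mul]
      rcases IsLocalRing.isUnit_or_isUnit_one_sub_self (u (Pi.single i 1) j) with h | h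
      · right
        exact h.mul_left_cancel (he.eq.trans (mul_one _).symm)
      · left
        exact h.mul_left_cancel (by rw [mul_zero, sub_mul, one_mul, he.eq, sub_self])
    have hsum : ∑ i, u (Pi.single i 1) j = 1 := by
      rw [← Finset.sum_apply, ← map_sum]
      have : (∑ i : Fin n, Pi.single i (1 : T)) = 1 := by
        ext k; simp [Finset.sum_apply, Pi.single_apply]
      rw [this, map_one, Pi.one_apply]
    obtain ⟨i, hi⟩ : ∃ i, u (Pi.single i 1) j = 1 := by
      by_contra hne
      push Not at hne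
      rw [Finset.sum_eq_zero fun i _ => (h01 i).resolve_right (hne i)] at hsum
      exact zero_ne_one hsum
    refine ⟨i, fun i' => ?_⟩
    by_cases h : i' = i
    · rw [if_pos h, h, hi]
    · rw [if_neg h]
      have h0 : u (Pi.single i' 1) j * u (Pi.single i 1) j = 0 := by
        rw [← Pi.mul_apply, ← map_mul]
        have : (Pi.single i' 1 : Fin n → T) * Pi.single i 1 = 0 := by
          ext k; simp only [Pi.mul_apply, Pi.single_apply, Pi.zero_apply]; grind
        rw [this, map_zero, Pi.zero_apply]
      rwa [hi, mul_one] at h0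
  choose σ hσ using key
  refine ⟨σ, fun f => ?_⟩
  ext j
  conv_lhs => rw [pi_eq_sum_univ' f]
  simp [Finset.sum_apply, hσ, mul_ite]

/-- The difference of two algebra maps. -/
def diff {R B C : Type u} [CommRing R] [CommRing B] [CommRing C] [Algebra R B] [Algebra R C]
    (u v : B →ₐ[R] C) : B →ₗ[R] C := u.toLinearMap - v.toLinearMap

theorem flat_coker_of_split_local {T B C : Type u} [CommRing T] [IsLocalRing T] [CommRing B]
    [CommRing C] [Algebra T B] [Algebra T C] [Algebra.IsFiniteSplit T B] [Algebra.IsFiniteSplit T C]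
    (u v : B →ₐ[T] C) : Module.Flat T (C ⧸ LinearMap.range (diff u v)) := by
  obtain ⟨n, ⟨eB⟩⟩ := Algebra.IsFiniteSplit.nonempty_algEquiv_fun T B
  obtain ⟨m, ⟨eC⟩⟩ := Algebra.IsFiniteSplit.nonempty_algEquiv_fun T C
  obtain ⟨σ, hσ⟩ := exists_eq_comp_of_isLocalRing ((eC.toAlgHom.comp u).comp eB.symm.toAlgHom)
  obtain ⟨τ, hτ⟩ := exists_eq_comp_of_isLocalRing ((eC.toAlgHom.comp v).comp eB.symm.toAlgHom)
  have := flat_coker_split T σ τ
  refine Module.Flat.of_linearEquiv (M := (Fin m → T) ⧸ LinearMap.range (diffMatrix T σ τ).mulVecLin)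
    (Submodule.Quotient.equiv _ _ eC.toLinearEquiv ?_)
  have h : eC.toLinearEquiv.toLinearMap.comp (diff u v) =
      ((diffMatrix T σ τ).mulVecLin).comp eB.toLinearEquiv.toLinearMap := by
    refine LinearMap.ext fun b => ?_
    have h1 := hσ (eB b)
    have h2 := hτ (eB b)
    simp only [AlgHom.comp_apply, AlgEquiv.coe_toAlgHom, AlgEquiv.symm_apply_apply] at h1 h2
    have h3 := diffMatrix_mulVecLin T σ τ (eB b)
    simp only [Matrix.mulVecLin_apply] at h3
    simp [diff, h1, h2, h3]
  rw [← LinearMap.range_comp, h, LinearMap.range_comp_of_range_eq_top _ (LinearEquiv.range _)]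

variable {R B C : Type u} [CommRing R] [CommRing B] [CommRing C] [Algebra R B] [Algebra R C]

/-- Base change of the cokernel. -/
noncomputable def cokerBaseChange (T : Type u) [CommRing T] [Algebra R T] (u v : B →ₐ[R] C) :
    T ⊗[R] (C ⧸ LinearMap.range (diff u v)) ≃ₗ[T]
      (T ⊗[R] C) ⧸ LinearMap.range (diff (Algebra.TensorProduct.map (.id T T) u)
        (Algebra.TensorProduct.map (.id T T) v)) :=
  have hex : Function.Exact (AlgebraTensorModule.lTensor T T (diff u v))
      (AlgebraTensorModule.lTensor T T (LinearMap.range (diff u v)).mkQ) :=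
    lTensor_exact T (LinearMap.exact_map_mkQ_range _) (Submodule.mkQ_surjective _)
  (Function.Exact.linearEquivOfSurjective hex
    (LinearMap.lTensor_surjective T (Submodule.mkQ_surjective _))).symm.trans
    (Submodule.quotEquivOfEq _ _ (by
      congr 1
      refine AlgebraTensorModule.ext fun t b => ?_
      simp [diff]))

variable [Module.Finite R B] [Algebra.Etale R B] [Module.Finite R C] [Algebra.Etale R C]

omit [Module.Finite R B] [Algebra.Etale R B] [Module.Finite R C] [Algebra.Etale R C] in
theorem flat_coker_of_isFiniteSplit [Algebra.IsFiniteSplit R B] [Algebra.IsFiniteSplit R C]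
    (u v : B →ₐ[R] C) : Module.Flat R (C ⧸ LinearMap.range (diff u v)) := by
  refine Module.flat_of_isLocalized_maximal R _ (fun P _ => Localization.AtPrime P ⊗[R] (C ⧸ LinearMap.range (diff u v)))
    (fun P _ => TensorProduct.mk R _ _ 1) fun P _ => ?_
  let _ : CommRing (Localization.AtPrime P) := inferInstance
  have := flat_coker_of_split_local (Algebra.TensorProduct.map (AlgHom.id (Localization.AtPrime P) (Localization.AtPrime P)) u)
    (Algebra.TensorProduct.map (AlgHom.id (Localization.AtPrime P) (Localization.AtPrime P)) v)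
  have : Module.Flat (Localization.AtPrime P)
      (Localization.AtPrime P ⊗[R] (C ⧸ LinearMap.range (diff u v))) :=
    .of_linearEquiv (cokerBaseChange _ u v)
  exact Module.Flat.trans R (Localization.AtPrime P) _

theorem flat_coker_of_local [IsLocalRing R] (u v : B →ₐ[R] C) :
    Module.Flat R (C ⧸ LinearMap.range (diff u v)) := by
  have : Module.FinitePresentation R B := Module.FinitePresentation.of_finite_of_finitePresentation R B
  have : Module.FinitePresentation R C := Module.FinitePresentation.of_finite_of_finitePresentation R C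
  have : Module.Free R B := Module.free_of_flat_of_isLocalRing
  have : Module.Free R C := Module.free_of_flat_of_isLocalRing
  obtain ⟨T₁, _, _, _, _, _, _⟩ := Algebra.IsFiniteSplit.exists_tensorProduct_of_etale
    (R := R) (S := B) (n := Module.finrank R B) Module.rankAtStalk_eq_finrank_of_free
  obtain ⟨T₂, _, _, _, _, _, _⟩ := Algebra.IsFiniteSplit.exists_tensorProduct_of_etale
    (R := R) (S := C) (n := Module.finrank R C) Module.rankAtStalk_eq_finrank_of_free
  have : Algebra.IsFiniteSplit (T₁ ⊗[R] T₂) ((T₁ ⊗[R] T₂) ⊗[R] B) :=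
    .of_algEquiv (Algebra.TensorProduct.cancelBaseChange R T₁ (T₁ ⊗[R] T₂) (T₁ ⊗[R] T₂) B)
  let _ : Algebra T₂ (T₁ ⊗[R] T₂) := Algebra.TensorProduct.rightAlgebra
  have : Algebra.IsFiniteSplit (T₁ ⊗[R] T₂) ((T₁ ⊗[R] T₂) ⊗[R] C) :=
    .of_algEquiv (Algebra.TensorProduct.cancelBaseChange R T₂ (T₁ ⊗[R] T₂) (T₁ ⊗[R] T₂) C)
  have := flat_coker_of_isFiniteSplit
    (Algebra.TensorProduct.map (AlgHom.id (T₁ ⊗[R] T₂) (T₁ ⊗[R] T₂)) u)
    (Algebra.TensorProduct.map (AlgHom.id (T₁ ⊗[R] T₂) (T₁ ⊗[R] T₂)) v)
  have : Module.Flat (T₁ ⊗[R] T₂) ((T₁ ⊗[R] T₂) ⊗[R] (C ⧸ LinearMap.range (diff u v))) :=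
    .of_linearEquiv (cokerBaseChange _ u v)
  have : Module.FaithfullyFlat R (T₁ ⊗[R] T₂) := Module.FaithfullyFlat.trans R T₁ _
  exact Module.Flat.of_flat_tensorProduct _ _ (T₁ ⊗[R] T₂)

theorem flat_coker (u v : B →ₐ[R] C) : Module.Flat R (C ⧸ LinearMap.range (diff u v)) := by
  refine Module.flat_of_isLocalized_maximal R _ (fun P _ => Localization.AtPrime P ⊗[R] (C ⧸ LinearMap.range (diff u v)))
    (fun P _ => TensorProduct.mk R _ _ 1) fun P _ => ?_
  let _ : CommRing (Localization.AtPrime P) := inferInstance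
  have := flat_coker_of_local (Algebra.TensorProduct.map (AlgHom.id (Localization.AtPrime P) (Localization.AtPrime P)) u)
    (Algebra.TensorProduct.map (AlgHom.id (Localization.AtPrime P) (Localization.AtPrime P)) v)
  have : Module.Flat (Localization.AtPrime P)
      (Localization.AtPrime P ⊗[R] (C ⧸ LinearMap.range (diff u v))) :=
    .of_linearEquiv (cokerBaseChange _ u v)
  exact Module.Flat.trans R (Localization.AtPrime P) _

end Groth.Pi1FEt
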