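import Groth.Agent.Pi1FEt.CokerFlat
import Mathlib.RingTheory.Smooth.Fiber
import Mathlib.RingTheory.Flat.EquationalCriterion
import Mathlib.RingTheory.LocalRing.Module

/-!
# Equalizers of finite étale algebras are finite étale and commute with any base change
-/

universe u

open TensorProduct

namespace Groth.Pi1FEt

variable {R B C : Type u} [CommRing R] [CommRing B] [CommRing C] [Algebra R B] [Algebra R C]
  [Module.Finite R B] [Algebra.Etale R B] [Module.Finite R C] [Algebra.Etale R C]
  (u v : B →ₐ[R] C)

theorem exists_generalized_inverse :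
    ∃ s : C →ₗ[R] B, ∀ b, diff u v (s (diff u v b)) = diff u v b := by
  have : Module.FinitePresentation R B := Module.FinitePresentation.of_finite_of_finitePresentation R B
  have : Module.FinitePresentation R C := Module.FinitePresentation.of_finite_of_finitePresentation R C
  have : Module.Projective R C := Module.Flat.projective_of_finitePresentation
  let D := diff u v
  let π := (LinearMap.range D).mkQ
  have hfg : (LinearMap.range D).FG := by
    rw [← Submodule.map_top]
    exact Submodule.FG.map _ Module.Finite.fg_top
  have : Module.FinitePresentation R (C ⧸ LinearMap.range D) :=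
    Module.finitePresentation_of_surjective π (Submodule.mkQ_surjective _)
      (by rw [Submodule.ker_mkQ]; exact hfg)
  have := flat_coker u v
  have : Module.Projective R (C ⧸ LinearMap.range D) := Module.Flat.projective_of_finitePresentation
  obtain ⟨q, hq⟩ := Module.projective_lifting_property π LinearMap.id (Submodule.mkQ_surjective _)
  let e : C →ₗ[R] LinearMap.range D :=
    (LinearMap.id - q.comp π).codRestrict _ fun x => by
      rw [← Submodule.Quotient.mk_eq_zero]
      have := LinearMap.congr_fun hq (π x)
      simp only [LinearMap.comp_apply, LinearMap.id_apply, π, Submodule.mkQ_apply] at this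
      simp [π, this]
  obtain ⟨s, hs⟩ := Module.projective_lifting_property D.rangeRestrict e D.surjective_rangeRestrict
  refine ⟨s, fun b => ?_⟩
  have h1 := congrArg Subtype.val (LinearMap.congr_fun hs (D b))
  simp only [e, LinearMap.comp_apply, LinearMap.codRestrict_apply,
    LinearMap.sub_apply, LinearMap.id_apply] at h1
  have h0 : π (D b) = 0 := (Submodule.Quotient.mk_eq_zero _).mpr ⟨b, rfl⟩
  rw [h0, map_zero, sub_zero] at h1
  exact h1

omit [Module.Finite R B] [Algebra.Etale R B] [Module.Finite R C] [Algebra.Etale R C] in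
theorem mem_equalizer_iff_diff (b : B) : b ∈ AlgHom.equalizer u v ↔ diff u v b = 0 := by
  simp [diff, AlgHom.mem_equalizer, sub_eq_zero]

theorem exists_retraction :
    ∃ p : B →ₗ[R] AlgHom.equalizer u v,
      (∀ x : AlgHom.equalizer u v, p (x : B) = x) ∧
      ∃ s : C →ₗ[R] B, ∀ b, ((p b : B)) = b - s (diff u v b) := by
  obtain ⟨s, hs⟩ := exists_generalized_inverse u v
  let p : B →ₗ[R] AlgHom.equalizer u v :=
    LinearMap.codRestrict (AlgHom.equalizer u v).toSubmodule (LinearMap.id - s.comp (diff u v))
      fun b => by
        change b - s (diff u v b) ∈ AlgHom.equalizer u v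
        rw [mem_equalizer_iff_diff, map_sub, hs, sub_self]
  refine ⟨p, fun x => Subtype.ext ?_, s, fun b => rfl⟩
  change (x : B) - s (diff u v x) = x
  rw [(mem_equalizer_iff_diff u v x).mp x.2, map_zero, sub_zero]

instance equalizer_finite : Module.Finite R (AlgHom.equalizer u v) := by
  obtain ⟨p, hp, -⟩ := exists_retraction u v
  exact Module.Finite.of_surjective p fun x => ⟨x, hp x⟩

instance equalizer_projective : Module.Projective R (AlgHom.equalizer u v) := by
  have : Module.FinitePresentation R B := Module.FinitePresentation.of_finite_of_finitePresentation R B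
  have : Module.Projective R B := Module.Flat.projective_of_finitePresentation
  obtain ⟨p, hp, -⟩ := exists_retraction u v
  exact Module.Projective.of_split (AlgHom.equalizer u v).val.toLinearMap p (LinearMap.ext hp)

variable (T : Type u) [CommRing T] [Algebra R T]

/-- The base change of `u`. -/
noncomputable abbrev bc (u : B →ₐ[R] C) : (T ⊗[R] B) →ₐ[T] (T ⊗[R] C) :=
  Algebra.TensorProduct.map (AlgHom.id T T) u

/-- The comparison map from the base change of the equalizer. -/
noncomputable def equalizerComparison :
    T ⊗[R] (AlgHom.equalizer u v) →ₐ[T] AlgHom.equalizer (bc T u) (bc T v) :=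
  AlgHom.codRestrict (bc T (AlgHom.equalizer u v).val) _ fun z => by
    induction z with
    | zero => simp
    | tmul t x => simp [AlgHom.mem_equalizer, (AlgHom.mem_equalizer u v x).mp x.2]
    | add x y hx hy => rw [map_add]; exact add_mem hx hy

theorem equalizerComparison_bijective : Function.Bijective (equalizerComparison u v T) := by
  obtain ⟨p, hp, s, hs⟩ := exists_retraction u v
  constructor
  · intro a b hab
    have h1 : (AlgHom.equalizer u v).val.toLinearMap.lTensor T a =
        (AlgHom.equalizer u v).val.toLinearMap.lTensor T b := congrArg Subtype.val hab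
    have hc : p.comp (AlgHom.equalizer u v).val.toLinearMap = LinearMap.id := LinearMap.ext hp
    have h2 := congrArg (p.lTensor T) h1
    rwa [← LinearMap.comp_apply, ← LinearMap.comp_apply, ← LinearMap.lTensor_comp, hc,
      LinearMap.lTensor_id] at h2
  · rintro ⟨x, hx⟩
    refine ⟨p.lTensor T x, Subtype.ext ?_⟩
    change (AlgHom.equalizer u v).val.toLinearMap.lTensor T (p.lTensor T x) = x
    have hd : (diff u v).lTensor T x = 0 := by
      rw [diff, LinearMap.lTensor_sub, LinearMap.sub_apply, sub_eq_zero]
      exact hx
    have hc : (AlgHom.equalizer u v).val.toLinearMap.comp p = LinearMap.id - s.comp (diff u v) :=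
      LinearMap.ext hs
    rw [← LinearMap.comp_apply, ← LinearMap.lTensor_comp, hc, LinearMap.lTensor_sub,
      LinearMap.sub_apply, LinearMap.lTensor_comp, LinearMap.comp_apply, hd, map_zero,
      LinearMap.lTensor_id, LinearMap.id_apply, sub_zero]

/-- Base change of equalizers of finite étale algebras. -/
noncomputable def equalizerBaseChange :
    T ⊗[R] (AlgHom.equalizer u v) ≃ₐ[T] AlgHom.equalizer (bc T u) (bc T v) :=
  AlgEquiv.ofBijective _ (equalizerComparison_bijective u v T)

omit [Module.Finite R B] [Algebra.Etale R B] [Module.Finite R C] [Algebra.Etale R C] in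
/-- Equalizer of maps of split algebras given by maps of index sets. -/
theorem etale_equalizer_of_comp {n m : ℕ} (eB : B ≃ₐ[R] Fin n → R) (eC : C ≃ₐ[R] Fin m → R)
    (σ τ : Fin m → Fin n) (hσ : ∀ b, eC (u b) = eB b ∘ σ) (hτ : ∀ b, eC (v b) = eB b ∘ τ) :
    Algebra.Etale R (AlgHom.equalizer u v) := by
  let r : Fin n → Fin n → Prop := fun a b => ∃ j, σ j = a ∧ τ j = b
  have : Finite (Quot r) := Quot.finite _
  let π : (Quot r → R) →ₐ[R] (Fin n → R) := AlgHom.pi fun a => Pi.evalAlgHom R (fun _ : Quot r => R) (Quot.mk r a)
  have hπ : ∀ g a, π g a = g (Quot.mk r a) := fun g a => rfl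
  let Φ : (Quot r → R) →ₐ[R] AlgHom.equalizer u v :=
    AlgHom.codRestrict (eB.symm.toAlgHom.comp π) _ fun g => by
      rw [AlgHom.mem_equalizer]
      apply eC.injective
      simp only [hσ, hτ, AlgHom.comp_apply, AlgEquiv.coe_toAlgHom, AlgEquiv.apply_symm_apply]
      ext j
      simp only [Function.comp_apply, hπ, Quot.sound (r := r) ⟨j, rfl, rfl⟩]
  refine Algebra.Etale.of_equiv (AlgEquiv.ofBijective Φ ⟨?_, ?_⟩)
  · intro a b hab
    ext q
    obtain ⟨i, rfl⟩ := Quot.mk_surjective q
    have := congrFun (congrArg eB (congrArg Subtype.val hab)) i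
    simpa [Φ, hπ] using this
  · rintro ⟨x, hx⟩
    have hc : ∀ a b, r a b → eB x a = eB x b := by
      rintro a b ⟨j, rfl, rfl⟩
      have h1 : eC (u x) j = eC (v x) j := by rw [(AlgHom.mem_equalizer u v x).mp hx]
      simpa [hσ, hτ] using h1
    refine ⟨Quot.lift (eB x) hc, Subtype.ext ?_⟩
    apply eB.injective
    ext i
    simp [Φ, hπ]

instance equalizer_etale : Algebra.Etale R (AlgHom.equalizer u v) := by
  let E := AlgHom.equalizer u v
  have : Module.FinitePresentation R E := Module.finitePresentation_of_projective R E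
  have : Algebra.FormallyUnramified R E := by
    constructor
    have : Module.Finite R Ω[E⁄R] := Module.Finite.trans E _
    rw [← Module.support_eq_empty_iff (R := R)]
    refine Set.eq_empty_iff_forall_notMem.mpr fun p hp => ?_
    rw [Module.mem_support_iff_nontrivial_residueField_tensorProduct] at hp
    let K := AlgebraicClosure p.asIdeal.ResidueField
    have : Algebra.Etale K (AlgHom.equalizer (bc K u) (bc K v)) := by
      obtain ⟨n, ⟨eB⟩⟩ := Algebra.IsFiniteSplit.nonempty_algEquiv_fun K (K ⊗[R] B)
      obtain ⟨m, ⟨eC⟩⟩ := Algebra.IsFiniteSplit.nonempty_algEquiv_fun K (K ⊗[R] C)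
      obtain ⟨σ, hσ⟩ := exists_eq_comp_of_isLocalRing ((eC.toAlgHom.comp (bc K u)).comp eB.symm.toAlgHom)
      obtain ⟨τ, hτ⟩ := exists_eq_comp_of_isLocalRing ((eC.toAlgHom.comp (bc K v)).comp eB.symm.toAlgHom)
      exact etale_equalizer_of_comp (bc K u) (bc K v) eB eC σ τ
        (fun b => by simpa using hσ (eB b)) (fun b => by simpa using hτ (eB b))
    have : Algebra.Etale K (K ⊗[R] E) := .of_equiv (equalizerBaseChange u v K).symm
    have : Subsingleton (K ⊗[R] Ω[E⁄R]) := by
      let _ : Algebra E (K ⊗[R] E) := Algebra.TensorProduct.rightAlgebra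
      exact (KaehlerDifferential.tensorKaehlerEquivBase R K E (K ⊗[R] E)).subsingleton
    have : Subsingleton (K ⊗[p.asIdeal.ResidueField] (p.asIdeal.ResidueField ⊗[R] Ω[E⁄R])) :=
      (AlgebraTensorModule.cancelBaseChange R p.asIdeal.ResidueField K K Ω[E⁄R]).subsingleton
    have := Module.FaithfullyFlat.lTensor_reflects_triviality p.asIdeal.ResidueField K
      (p.asIdeal.ResidueField ⊗[R] Ω[E⁄R])
    exact false_of_nontrivial_of_subsingleton (p.asIdeal.ResidueField ⊗[R] Ω[E⁄R])
  exact Algebra.Etale.of_formallyUnramified_of_flat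

end Groth.Pi1FEt
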