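import Groth.Agent.Pi1FEt.Colimits
import Groth.Agent.Pi1FEt.Limits
import Groth.Agent.Pi1FEt.SpecEquiv
import Mathlib.RingTheory.Etale.Finite
import Mathlib.CategoryTheory.Galois.Basic
import Mathlib.AlgebraicGeometry.Morphisms.FlatRank
import Mathlib.AlgebraicGeometry.Morphisms.FlatMono
import Mathlib.AlgebraicGeometry.Limits

/-!
# Finite étale covers form a Galois category
-/

universe u

set_option autoImplicit false
set_option backward.isDefEq.respectTransparency false
set_option backward.defeqAttrib.useBackward true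

open CategoryTheory Limits AlgebraicGeometry CommAlgCat Opposite

namespace Groth.Pi1FEt

variable {X : Scheme.{u}} {Ω : Type u} [Field Ω] (ξ : Spec (CommRingCat.of Ω) ⟶ X)

section fiber

variable [IsSepClosed Ω]

/-- The fibre functor with values in finite sets. -/
noncomputable def fiberFun : FEt.Cat X ⥤ FintypeCat.{u} :=
  FEt.restrict ξ ⋙ (specFun Ω).inv ⋙ FiniteEtale.fiber.{u} Ω Ω

instance : ((specFun Ω).inv ⋙ FiniteEtale.fiber.{u} Ω Ω).IsEquivalence :=
  inferInstance

instance : PreservesFiniteLimits (fiberFun ξ) :=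
  comp_preservesFiniteLimits _ ((specFun Ω).inv ⋙ FiniteEtale.fiber.{u} Ω Ω)

instance : PreservesFiniteColimits (fiberFun ξ) :=
  comp_preservesFiniteColimits _ ((specFun Ω).inv ⋙ FiniteEtale.fiber.{u} Ω Ω)

end fiber

/-- The fibre at `ξ` is the fibre at the identity of the pullback along `ξ`. -/
noncomputable def fiberObjEquivRestrict (A : FEt.Cat X) :
    FEt.fiberObj ξ A ≃ FEt.fiberObj (𝟙 (Spec (CommRingCat.of Ω))) ((FEt.restrict ξ).obj A) where
  toFun s := ⟨pullback.lift s.1 (𝟙 _) (by rw [s.2, Category.id_comp]), pullback.lift_snd _ _ _⟩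
  invFun t := ⟨t.1 ≫ pullback.fst A.hom ξ, by
    rw [Category.assoc, pullback.condition, ← Category.assoc]
    exact (congrArg (· ≫ ξ) t.2).trans (Category.id_comp _)⟩
  left_inv s := Subtype.ext (pullback.lift_fst _ _ _)
  right_inv t := Subtype.ext (by
    apply pullback.hom_ext
    · exact pullback.lift_fst _ _ _
    · exact (pullback.lift_snd _ _ _).trans t.2.symm)

/-- The fibre functor at `ξ` factors through the restriction along `ξ`. -/
noncomputable def fiberRestrictIso :
    FEt.restrict ξ ⋙ FEt.fiber (𝟙 (Spec (CommRingCat.of Ω))) ≅ FEt.fiber ξ :=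
  NatIso.ofComponents (fun A => (fiberObjEquivRestrict ξ A).symm.toIso) fun {A B} f => by
    refine ConcreteCategory.hom_ext _ _ fun t => Subtype.ext ?_
    change (t.1 ≫ ((FEt.restrict ξ).map f).left) ≫ pullback.fst B.hom ξ =
      (t.1 ≫ pullback.fst A.hom ξ) ≫ f.left
    rw [Category.assoc, Category.assoc]
    congr 1
    exact pullback.lift_fst _ _ _

variable (Ω) in
/-- Rational points of `Spec A` over a field. -/
noncomputable def specPointsEquiv (A : FiniteEtale.{u} Ω) :
    (A.obj →ₐ[Ω] Ω) ≃ FEt.fiberObj (𝟙 (Spec (CommRingCat.of Ω))) (specObj Ω A) :=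
  Equiv.ofBijective
    (fun φ => ⟨Spec.map (CommRingCat.ofHom φ.toRingHom), by
      change Spec.map _ ≫ Spec.map _ = _
      rw [← Spec.map_comp, ← CommRingCat.ofHom_comp, ← Spec.map_id]
      exact congrArg (fun t => Spec.map (CommRingCat.ofHom t)) (AlgHom.comp_algebraMap φ)⟩)
    ⟨fun φ ψ h => AlgHom.ext fun x =>
        RingHom.congr_fun (congrArg CommRingCat.Hom.hom (Spec.map_injective (congrArg Subtype.val h))) x,
      fun s => by
        obtain ⟨ψ, hψ⟩ := Spec.map_surjective s.1
        have hcomm : CommRingCat.ofHom (algebraMap Ω A.obj) ≫ ψ = 𝟙 (CommRingCat.of Ω) := by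
          apply Spec.map_injective
          rw [Spec.map_comp, hψ, Spec.map_id]
          exact s.2
        exact ⟨{ toRingHom := ψ.hom
                 commutes' := fun r => RingHom.congr_fun (congrArg CommRingCat.Hom.hom hcomm) r },
          Subtype.ext hψ⟩⟩

variable (Ω) in
/-- The fibre functor of finite étale algebras over a field agrees with rational points. -/
noncomputable def specFunFiberIso :
    FiniteEtale.fiber.{u} Ω Ω ⋙ FintypeCat.incl ≅
      specFun Ω ⋙ FEt.fiber (𝟙 (Spec (CommRingCat.of Ω))) :=
  NatIso.ofComponents (fun A => (specPointsEquiv Ω A.unop).toIso) fun {A B} f => by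
    refine ConcreteCategory.hom_ext _ _ fun φ => Subtype.ext ?_
    change Spec.map _ = Spec.map _ ≫ Spec.map _
    rw [← Spec.map_comp]
    rfl

/-- The fibre functor with values in finite sets computes the fibre. -/
noncomputable def fiberFunIso [IsSepClosed Ω] : fiberFun ξ ⋙ FintypeCat.incl ≅ FEt.fiber ξ :=
  Functor.associator _ _ _ ≪≫
    Functor.isoWhiskerLeft (FEt.restrict ξ) (Functor.associator _ _ _ ≪≫
      Functor.isoWhiskerLeft (specFun Ω).inv (specFunFiberIso Ω) ≪≫
      (Functor.associator _ _ _).symm ≪≫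
      Functor.isoWhiskerRight (specFun Ω).asEquivalence.counitIso _ ≪≫ Functor.leftUnitor _) ≪≫
    fiberRestrictIso ξ

section mono

variable {A B : FEt.Cat X} (i : A ⟶ B)

theorem isFinite_left : IsFinite i.left :=
  haveI : IsFinite B.hom := B.prop.1
  haveI : IsFinite (i.left ≫ B.hom) := by rw [MorphismProperty.Over.w]; exact A.prop.1
  IsFinite.of_comp i.left B.hom

theorem etale_left : Etale i.left :=
  haveI : Etale B.hom := B.prop.2
  haveI : Etale (i.left ≫ B.hom) := by rw [MorphismProperty.Over.w]; exact A.prop.2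
  Etale.of_comp i.left B.hom

theorem mono_left [Mono i] : Mono i.left := by
  have h : (MorphismProperty.Over.forget FEt.prop ⊤ X).PreservesMonomorphisms := inferInstance
  have : Mono ((MorphismProperty.Over.forget FEt.prop ⊤ X).map i) := inferInstance
  exact inferInstanceAs (Mono ((Over.forget X).map ((MorphismProperty.Over.forget FEt.prop ⊤ X).map i)))

theorem exists_isColimit_binaryCofan [Mono i] :
    ∃ (C : FEt.Cat X) (u : C ⟶ B), Nonempty (IsColimit (BinaryCofan.mk i u)) := by
  have := mono_left i
  have := isFinite_left i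
  have := etale_left i
  have : IsOpenImmersion i.left := IsOpenImmersion.of_flat_of_mono _
  let U : B.left.Opens := ⟨(Set.range i.left)ᶜ, (i.left.isClosedMap.isClosed_range).isOpen_compl⟩
  have : IsClosedImmersion U.ι :=
    IsClosedImmersion.of_isPreimmersion _ (by
      rw [Scheme.Opens.range_ι]
      exact i.left.opensRange.2.isClosed_compl)
  have hU : FEt.prop (U.ι ≫ B.hom) :=
    MorphismProperty.comp_mem _ _ _ ⟨inferInstance, inferInstance⟩ B.prop
  let C : FEt.Cat X := MorphismProperty.Over.mk ⊤ (U.ι ≫ B.hom) hU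
  let u : C ⟶ B := MorphismProperty.Over.homMk U.ι rfl
  refine ⟨C, u, ?_⟩
  have hcompl : IsCompl i.left.opensRange U.ι.opensRange := by
    rw [Scheme.Opens.opensRange_ι]
    constructor
    · rw [disjoint_iff, ← TopologicalSpace.Opens.coe_inj]
      exact Set.inter_compl_self _
    · rw [codisjoint_iff, ← TopologicalSpace.Opens.coe_inj]
      exact Set.union_compl_self _
  obtain ⟨h⟩ := nonempty_isColimit_binaryCofanMk_of_isCompl i.left U.ι hcompl
  refine ⟨isColimitOfReflects (MorphismProperty.Over.forget FEt.prop ⊤ X)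
    (isColimitOfReflects (Over.forget X) ?_)⟩
  refine IsColimit.ofIsoColimit ((IsColimit.precomposeHomEquiv (diagramIsoPair _) _).symm h)
    (Cocone.ext (Iso.refl _) ?_)
  rintro ⟨_ | _⟩ <;> exact (Category.comp_id _).trans (Category.id_comp _)

end mono

theorem hasColimitsOfShape_singleObj (G : Type u) [Group G] [Finite G] :
    HasColimitsOfShape (SingleObj G) (FEt.Cat X) := by
  obtain ⟨G', hg, hf, ⟨e⟩⟩ := Finite.exists_type_univ_nonempty_mulEquiv.{u, 0} G
  letI : FinCategory (SingleObj G') :=
    { fintypeObj := inferInstanceAs (Fintype PUnit), fintypeHom := fun _ _ => inferInstanceAs (Fintype G') }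
  exact hasColimitsOfShape_of_equivalence e.toSingleObjEquiv.symm

theorem preservesColimitsOfShape_singleObj [IsSepClosed Ω] (G : Type u) [Group G] [Finite G] :
    PreservesColimitsOfShape (SingleObj G) (fiberFun ξ) := by
  obtain ⟨G', hg, hf, ⟨e⟩⟩ := Finite.exists_type_univ_nonempty_mulEquiv.{u, 0} G
  letI : FinCategory (SingleObj G') :=
    { fintypeObj := inferInstanceAs (Fintype PUnit), fintypeHom := fun _ _ => inferInstanceAs (Fintype G') }
  exact preservesColimitsOfShape_of_equiv e.toSingleObjEquiv.symm (fiberFun ξ)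

/-- Finite étale covers of any scheme form a pre-Galois category. -/
theorem preGaloisCategory (X : Scheme.{u}) : PreGaloisCategory (FEt.Cat X) where
  hasQuotientsByFiniteGroups G _ _ := hasColimitsOfShape_singleObj G
  monoInducesIsoOnDirectSummand i _ := exists_isColimit_binaryCofan i

/-- Restriction along any morphism from a nonempty scheme to a connected one reflects isomorphisms. -/
theorem isIso_of_isIso_restrict [PreconnectedSpace X] {T : Scheme.{u}} [Nonempty T] (g : T ⟶ X)
    {A B : FEt.Cat X} (f : A ⟶ B) [IsIso ((FEt.restrict g).map f)] : IsIso f := by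
  have := isFinite_left f
  have := etale_left f
  have hiso : IsIso ((FEt.restrict g).map f).left :=
    inferInstanceAs (IsIso ((MorphismProperty.Over.forget FEt.prop ⊤ T ⋙ Over.forget T).map
      ((FEt.restrict g).map f)))
  suffices IsIso f.left by
    have : IsIso ((MorphismProperty.Over.forget FEt.prop ⊤ X ⋙ Over.forget X).map f) := this
    exact isIso_of_reflects_iso f (MorphismProperty.Over.forget FEt.prop ⊤ X ⋙ Over.forget X)
  have hpb : IsPullback (pullback.fst A.hom g) ((FEt.restrict g).map f).left f.left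
      (pullback.fst B.hom g) := by
    refine IsPullback.of_bot ?_ (pullback.lift_fst _ _ _).symm (IsPullback.of_hasPullback B.hom g)
    have e1 : ((FEt.restrict g).map f).left ≫ pullback.snd B.hom g = pullback.snd A.hom g :=
      pullback.lift_snd _ _ _
    rw [e1, MorphismProperty.Over.w f]
    exact IsPullback.of_hasPullback A.hom g
  rw [Scheme.Hom.isIso_iff_finrank_eq]
  ext b
  by_contra hb
  have hbad : IsClopen {b : B.left | f.left.finrank b ≠ 1} :=
    IsLocallyConstant.isClopen_fiber (Scheme.Hom.isLocallyConstant_finrank f.left) 1 |>.compl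
  have hBfin : IsFinite B.hom := B.prop.1
  have hBet : Etale B.hom := B.prop.2
  have himg : IsClopen (B.hom '' {b : B.left | f.left.finrank b ≠ 1} : Set X) :=
    ⟨B.hom.isClosedMap _ hbad.1, B.hom.isOpenMap _ hbad.2⟩
  have huniv := himg.eq_univ ⟨_, b, hb, rfl⟩
  obtain ⟨t⟩ := ‹Nonempty T›
  obtain ⟨b', hb', hbt⟩ := huniv ▸ Set.mem_univ (g t)
  obtain ⟨z, hz, -⟩ := Scheme.Pullback.exists_preimage_pullback (f := B.hom) (g := g) b' t hbt
  apply hb'
  rw [← hz]
  exact (Scheme.Hom.finrank_of_isPullback _ _ _ _ hpb z).symm.trans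
    (congrFun (Scheme.Hom.finrank_eq_one_of_isIso _) z)

variable [IsAlgClosed Ω]

/-- The fibre functor of a connected scheme is a fibre functor. -/
theorem fiberFunctor_fiberFun [PreconnectedSpace X] :
    letI := preGaloisCategory X
    PreGaloisCategory.FiberFunctor (fiberFun ξ) :=
  letI := preGaloisCategory X
  { preservesFiniteCoproducts := inferInstance
    preservesQuotientsByFiniteGroups := fun G _ _ => preservesColimitsOfShape_singleObj ξ G
    reflectsIsos := ⟨fun {A B} f hf => by
      have : IsIso (((specFun Ω).inv ⋙ FiniteEtale.fiber.{u} Ω Ω).map ((FEt.restrict ξ).map f)) := hf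
      have := isIso_of_reflects_iso ((FEt.restrict ξ).map f) ((specFun Ω).inv ⋙ FiniteEtale.fiber.{u} Ω Ω)
      exact isIso_of_isIso_restrict ξ f⟩ }

end Groth.Pi1FEt
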