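import Groth.Agent.Pi1FEt.FiberFun
import Groth.Agent.Pi1Galois.Unique
import Mathlib.CategoryTheory.Galois.Prorepresentability

/-!
# Uniqueness of fibre functors of connected schemes
-/

universe u

set_option autoImplicit false
set_option backward.isDefEq.respectTransparency false

open CategoryTheory Limits AlgebraicGeometry PreGaloisCategory

namespace Groth.Pi1FEt

variable {X : Scheme.{u}} [ConnectedSpace X] {Ω Ω' : Type u} [Field Ω] [IsAlgClosed Ω]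
  [Field Ω'] [IsAlgClosed Ω'] (ξ : Spec (CommRingCat.of Ω) ⟶ X)
  (ξ' : Spec (CommRingCat.of Ω') ⟶ X)

theorem nonempty_fiberIso : Nonempty (FEt.fiber ξ ≅ FEt.fiber ξ') := by
  letI := preGaloisCategory X
  haveI := fiberFunctor_fiberFun ξ
  haveI := fiberFunctor_fiberFun ξ'
  haveI : GaloisCategory (FEt.Cat X) := ⟨fiberFun ξ', ⟨inferInstance⟩⟩
  obtain ⟨e⟩ := Groth.Pi1Galois.nonempty_iso_of_exact (fiberFun ξ') (fiberFun ξ)
  exact ⟨(fiberFunIso ξ).symm ≪≫ Functor.isoWhiskerRight e _ ≪≫ fiberFunIso ξ'⟩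

theorem isIso_fiber_hom (φ : FEt.fiber ξ ⟶ FEt.fiber ξ') : IsIso φ := by
  letI := preGaloisCategory X
  haveI := fiberFunctor_fiberFun ξ
  haveI : GaloisCategory (FEt.Cat X) := ⟨fiberFun ξ, ⟨inferInstance⟩⟩
  obtain ⟨e⟩ := nonempty_fiberIso ξ' ξ
  let ψ := (fiberFunIso ξ).hom ≫ φ ≫ e.hom ≫ (fiberFunIso ξ).inv
  obtain ⟨σ, hσ⟩ : ∃ σ : fiberFun ξ ⟶ fiberFun ξ, ((Functor.whiskeringRight _ _ _).obj
      FintypeCat.incl.{u}).map σ = ψ :=
    ⟨_, (((Functor.FullyFaithful.ofFullyFaithful FintypeCat.incl.{u}).whiskeringRight _).map_preimage ψ)⟩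
  haveI : IsIso σ := FibreFunctor.end_isIso (fiberFun ξ) σ
  haveI : IsIso ψ := hσ ▸ inferInstance
  have : φ = (fiberFunIso ξ).inv ≫ ψ ≫ (fiberFunIso ξ).hom ≫ e.inv := by
    simp [ψ]
  rw [this]
  infer_instance

end Groth.Pi1FEt
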